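import Mathlib.NumberTheory.NumberField.Discriminant.Different
import Mathlib.NumberTheory.RamificationInertia.Galois
import Mathlib.FieldTheory.Minpoly.IsIntegrallyClosed
import Mathlib.RingTheory.LocalProperties.Basic
import Mathlib.FieldTheory.PrimitiveElement
import Mathlib.FieldTheory.Finite.Basic

/-!
# Total splitting of a prime in a Galois number field, in the form `x ^ r ≡ x mod r`
-/

set_option autoImplicit false
open Polynomial NumberField

namespace K229.Split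

variable {K : Type*} [Field K] [NumberField K]

/-- if `f(c) ≡ 0 mod r` for the minimal polynomial `f` of a generator, there is a prime above `r` with residue
field the prime field -/
theorem exists_prime_of_root (θ : 𝓞 K) (D : ℤ) (hD : ∀ x : 𝓞 K, D • x ∈ Algebra.adjoin ℤ {θ})
    (r : ℕ) (hr : r.Prime) (hrD : ¬ (r : ℤ) ∣ D) (c : ℤ) (hc : (r : ℤ) ∣ (minpoly ℤ θ).eval c) :
    ∃ P : Ideal (𝓞 K), P.IsMaximal ∧ (r : 𝓞 K) ∈ P ∧ ∀ x : 𝓞 K, x ^ r - x ∈ P := by
  have := Fact.mk hr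
  have hrp := Nat.prime_iff_prime_int.1 hr
  have hθ : IsIntegral ℤ θ := Algebra.IsIntegral.isIntegral θ
  -- polynomials
  have hpol : ∀ x : 𝓞 K, ∃ g : ℤ[X], (D : 𝓞 K) * x = aeval θ g := fun x => by
    have h1 := hD x
    rw [Algebra.adjoin_singleton_eq_range_aeval] at h1
    obtain ⟨g, hg⟩ := h1
    exact ⟨g, by rw [← zsmul_eq_mul]; exact hg.symm⟩
  have hne : Ideal.span {(r : 𝓞 K), θ - (c : 𝓞 K)} ≠ ⊤ := fun h => by
    have h1 : (1 : 𝓞 K) ∈ Ideal.span {(r : 𝓞 K), θ - (c : 𝓞 K)} := h ▸ Submodule.mem_top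
    rw [Ideal.mem_span_pair] at h1
    obtain ⟨a, b, hab⟩ := h1
    obtain ⟨g, hg⟩ := hpol a
    obtain ⟨h, hh⟩ := hpol b
    have h2 : aeval θ (g * (r : ℤ[X]) + h * (X - (C c : ℤ[X])) - C D) = 0 := by
      simp only [map_sub, map_add, map_mul, aeval_X, map_natCast, aeval_C]
      rw [← hg, ← hh]
      simp only [algebraMap_int_eq, eq_intCast]
      linear_combination (D : 𝓞 K) * hab
    rw [minpoly.isIntegrallyClosed_dvd_iff hθ] at h2
    obtain ⟨q, hq⟩ := h2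
    have h3 := congrArg (fun p => p.eval c) hq
    simp only [eval_sub, eval_add, eval_mul, eval_X, eval_C, sub_self, mul_zero, add_zero,
      eval_natCast] at h3
    refine hrD ?_
    have h4 : (r : ℤ) ∣ eval c g * (r : ℤ) - D := h3 ▸ hc.mul_right _
    exact (Int.dvd_iff_dvd_of_dvd_sub h4).1 (Dvd.intro_left _ rfl)
  obtain ⟨P, hP, hle⟩ := Ideal.exists_le_maximal _ hne
  have hrP : (r : 𝓞 K) ∈ P := hle (Ideal.subset_span (by simp))
  have hθP : θ - (c : 𝓞 K) ∈ P := hle (Ideal.subset_span (by simp))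
  refine ⟨P, hP, hrP, fun x => ?_⟩
  have hint : ∀ n : ℤ, (r : ℤ) ∣ n → (n : 𝓞 K) ∈ P := fun n hn => by
    obtain ⟨m, rfl⟩ := hn
    push_cast
    exact P.mul_mem_right _ hrP
  have hDP : (D : 𝓞 K) ∉ P := fun h => by
    have h1 : IsCoprime (r : ℤ) D := (Prime.coprime_iff_not_dvd hrp).2 hrD
    obtain ⟨u, v, huv⟩ := h1
    have h2 : ((u * r + v * D : ℤ) : 𝓞 K) ∈ P := by
      push_cast
      exact P.add_mem (P.mul_mem_left _ hrP) (P.mul_mem_left _ h)
    rw [huv] at h2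
    exact hP.ne_top ((Ideal.eq_top_iff_one P).2 (by simpa using h2))
  have fermat : ∀ n : ℤ, (r : ℤ) ∣ n ^ r - n := fun n => by
    rw [← ZMod.intCast_zmod_eq_zero_iff_dvd]
    push_cast
    rw [ZMod.pow_card, sub_self]
  obtain ⟨g, hg⟩ := hpol x
  have h1 : (D : 𝓞 K) * x - ((g.eval c : ℤ) : 𝓞 K) ∈ P := by
    rw [hg]
    have h2 := sub_dvd_eval_sub θ (c : 𝓞 K) (g.map (algebraMap ℤ (𝓞 K)))
    have h3 : eval (c : 𝓞 K) (g.map (algebraMap ℤ (𝓞 K))) = ((g.eval c : ℤ) : 𝓞 K) := by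
      rw [← eq_intCast (algebraMap ℤ (𝓞 K)) c, eval_map, eval₂_at_apply]
      simp
    rw [h3, eval_map_algebraMap] at h2
    exact P.mem_of_dvd h2 hθP
  have h2 : ((D : 𝓞 K) * x) ^ r - ((g.eval c : ℤ) : 𝓞 K) ^ r ∈ P :=
    P.mem_of_dvd (sub_dvd_pow_sub_pow _ _ _) h1
  have h3 : ((g.eval c : ℤ) : 𝓞 K) ^ r - ((g.eval c : ℤ) : 𝓞 K) ∈ P := by
    have := hint _ (fermat (g.eval c))
    push_cast at this
    exact this
  have h4 : (D : 𝓞 K) ^ r - (D : 𝓞 K) ∈ P := by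
    have := hint _ (fermat D)
    push_cast at this
    exact this
  have h5 : (D : 𝓞 K) * (x ^ r - x) ∈ P := by
    have e : (D : 𝓞 K) * (x ^ r - x) = (((D : 𝓞 K) * x) ^ r - ((g.eval c : ℤ) : 𝓞 K) ^ r) +
        (((g.eval c : ℤ) : 𝓞 K) ^ r - ((g.eval c : ℤ) : 𝓞 K)) -
        ((D : 𝓞 K) * x - ((g.eval c : ℤ) : 𝓞 K)) - x ^ r * ((D : 𝓞 K) ^ r - (D : 𝓞 K)) := by ring
    rw [e]
    exact P.sub_mem (P.sub_mem (P.add_mem h2 h3) h1) (P.mul_mem_left _ h4)
  exact (hP.isPrime.mem_or_mem h5).resolve_left hDP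

/-- in an unramified extension, an element of all the primes above `r` is divisible by `r` -/
theorem dvd_of_forall_mem (r : ℕ) (hr : r.Prime) (hdisc : ¬ (r : ℤ) ∣ discr K) (y : 𝓞 K)
    (hy : ∀ P : Ideal (𝓞 K), P.IsPrime → (r : 𝓞 K) ∈ P → y ∈ P) : (r : 𝓞 K) ∣ y := by
  rw [← Ideal.mem_span_singleton]
  refine Ideal.mem_of_localization_maximal fun P hP => ?_
  by_cases hrP : (r : 𝓞 K) ∈ P
  · have hrp := Nat.prime_iff_prime_int.1 hr
    have hu := (not_dvd_discr_iff_forall_mem K (𝓞 K) hrp).1 hdisc P hP.isPrime (by simpa using hrP)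
    have : P.LiesOver (Ideal.span {(r : ℤ)}) := (Ideal.liesOver_span_iff hP.ne_top hrp).mpr (by simpa using hrP)
    have : (Ideal.span {(r : ℤ)}).IsPrime := (Ideal.span_singleton_prime hrp.ne_zero).2 hrp
    let := Localization.AtPrime.algebraOfLiesOver (Ideal.span {(r : ℤ)}) P
    have h2 := ((Algebra.isUnramifiedAt_iff_map_eq ℤ (Ideal.span {(r : ℤ)}) P).1 hu).2
    have h3 : Ideal.map (algebraMap (𝓞 K) (Localization.AtPrime P)) (Ideal.span {(r : 𝓞 K)}) =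
        IsLocalRing.maximalIdeal (Localization.AtPrime P) := by
      rw [← h2, Ideal.map_span, Ideal.map_span, Set.image_singleton, Set.image_singleton]
      simp
    rw [h3]
    exact (IsLocalization.AtPrime.to_map_mem_maximal_iff (Localization.AtPrime P) P y).2 (hy P hP.isPrime hrP)
  · have h1 : Ideal.map (algebraMap (𝓞 K) (Localization.AtPrime P)) (Ideal.span {(r : 𝓞 K)}) = ⊤ := by
      refine Ideal.eq_top_of_isUnit_mem _ (Ideal.mem_map_of_mem _ (Ideal.mem_span_singleton_self _)) ?_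
      exact (IsLocalization.AtPrime.isUnit_to_map_iff (Localization.AtPrime P) P _).2 hrP
    rw [h1]
    trivial

/-- a root of the minimal polynomial of a generator modulo `r` gives total splitting in the Galois case -/
theorem split_of_root [IsGalois ℚ K] (θ : 𝓞 K) (D : ℤ) (hD : ∀ x : 𝓞 K, D • x ∈ Algebra.adjoin ℤ {θ})
    (r : ℕ) (hr : r.Prime) (hrD : ¬ (r : ℤ) ∣ D) (hdisc : ¬ (r : ℤ) ∣ discr K)
    (c : ℤ) (hc : (r : ℤ) ∣ (minpoly ℤ θ).eval c) (x : 𝓞 K) : (r : 𝓞 K) ∣ x ^ r - x := by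
  obtain ⟨P, hP, hrP, hx⟩ := exists_prime_of_root θ D hD r hr hrD c hc
  refine dvd_of_forall_mem r hr hdisc _ fun Q hQ hrQ => ?_
  have hrp := Nat.prime_iff_prime_int.1 hr
  have : P.LiesOver (Ideal.span {(r : ℤ)}) := (Ideal.liesOver_span_iff hP.ne_top hrp).mpr (by simpa using hrP)
  have : Q.LiesOver (Ideal.span {(r : ℤ)}) := (Ideal.liesOver_span_iff hQ.ne_top hrp).mpr (by simpa using hrQ)
  have := hP.isPrime
  obtain ⟨σ, rfl⟩ := Ideal.exists_smul_eq_of_isGaloisGroup (Ideal.span {(r : ℤ)}) P Q (K ≃ₐ[ℚ] K)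
  have h1 := Ideal.smul_mem_pointwise_smul σ _ P (hx (σ⁻¹ • x))
  rwa [smul_sub, smul_pow', smul_inv_smul] at h1

end K229.Split
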