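import Groth.Agent.AbVar.K229.PolVal
import Groth.Agent.AbVar.K229.Split
import Mathlib.NumberTheory.NumberField.InfinitePlace.TotallyRealComplex
import Mathlib.FieldTheory.Normal.Basic
import Mathlib.Analysis.Complex.Polynomial.Basic
import Mathlib.RingTheory.Ideal.Norm.AbsNorm

/-!
# A prime `r ≡ 3 mod 4` splitting completely in a totally real field
-/

set_option autoImplicit false
open Polynomial NumberField

namespace K229.NT1

section Galois

variable {K : Type*} [Field K] [NumberField K]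

/-- an integral primitive element -/
theorem exists_integral_primitive : ∃ θ : 𝓞 K, Algebra.adjoin ℚ {(θ : K)} = ⊤ := by
  obtain ⟨α, hα⟩ := Field.exists_primitive_element ℚ K
  obtain ⟨m, hm, hint⟩ := IsAlgebraic.exists_integral_multiple (R := ℤ) (A := K) (z := α)
    ((IsFractionRing.isAlgebraic_iff ℤ ℚ K).2 (Algebra.IsAlgebraic.isAlgebraic α))
  obtain ⟨θ, hθ⟩ : ∃ θ : 𝓞 K, (θ : K) = m • α := ⟨⟨m • α, hint⟩, rfl⟩
  refine ⟨θ, ?_⟩
  have h1 : Algebra.adjoin ℚ {α} = ⊤ := by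
    rw [← IntermediateField.adjoin_simple_toSubalgebra_of_isAlgebraic (Algebra.IsAlgebraic.isAlgebraic α), hα,
      IntermediateField.top_toSubalgebra]
  rw [eq_top_iff, ← h1]
  refine Algebra.adjoin_le ?_
  rw [Set.singleton_subset_iff]
  have h2 : (m : ℚ)⁻¹ • (θ : K) = α := by
    have hm' : (m : ℚ) ≠ 0 := by exact_mod_cast hm
    rw [hθ, ← Int.cast_smul_eq_zsmul ℚ, smul_smul, inv_mul_cancel₀ hm', one_smul]
  have h3 : (m : ℚ)⁻¹ • (θ : K) ∈ Algebra.adjoin ℚ {(θ : K)} :=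
    Subalgebra.smul_mem _ (Algebra.subset_adjoin (Set.mem_singleton _)) _
  rw [h2] at h3
  exact h3

theorem exists_denom (θ : 𝓞 K) (hθ : Algebra.adjoin ℚ {(θ : K)} = ⊤) (x : 𝓞 K) :
    ∃ n : ℤ, n ≠ 0 ∧ n • x ∈ Algebra.adjoin ℤ {θ} := by
  have key : ∀ y ∈ Algebra.adjoin ℚ {(θ : K)}, ∃ n : ℤ, n ≠ 0 ∧ ∃ z ∈ Algebra.adjoin ℤ {θ}, (n : K) * y = (z : K) := by
    intro y hy
    induction hy using Algebra.adjoin_induction with
    | mem y hy =>
      rw [Set.mem_singleton_iff] at hy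
      exact ⟨1, one_ne_zero, θ, Algebra.subset_adjoin (by simp), by simp [hy]⟩
    | algebraMap q =>
      refine ⟨q.den, by exact_mod_cast q.den_nz, algebraMap ℤ _ q.num, Subalgebra.algebraMap_mem _ _, ?_⟩
      have h := Rat.den_mul_eq_num q
      have h' := congrArg (algebraMap ℚ K) h
      simp only [map_mul, map_natCast, map_intCast] at h'
      simpa using h'
    | add a b _ _ ha hb =>
      obtain ⟨n, hn, z, hz, e⟩ := ha
      obtain ⟨m, hm, w, hw, e'⟩ := hb
      refine ⟨n * m, mul_ne_zero hn hm, (m : 𝓞 K) * z + (n : 𝓞 K) * w, ?_, ?_⟩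
      · exact add_mem (mul_mem (intCast_mem _ _) hz) (mul_mem (intCast_mem _ _) hw)
      · simp only [map_add, map_mul, map_intCast, Int.cast_mul]
        linear_combination (m : K) * e + (n : K) * e'
    | mul a b _ _ ha hb =>
      obtain ⟨n, hn, z, hz, e⟩ := ha
      obtain ⟨m, hm, w, hw, e'⟩ := hb
      refine ⟨n * m, mul_ne_zero hn hm, z * w, mul_mem hz hw, ?_⟩
      simp only [map_mul, Int.cast_mul]
      linear_combination (n : K) * a * e' + (w : K) * e
  obtain ⟨n, hn, z, hz, e⟩ := key (x : K) (hθ ▸ Algebra.mem_top)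
  refine ⟨n, hn, ?_⟩
  have : n • x = z := RingOfIntegers.ext (by
    rw [← e, zsmul_eq_mul]
    push_cast
    rfl)
  rwa [this]

theorem exists_denom' (θ : 𝓞 K) (hθ : Algebra.adjoin ℚ {(θ : K)} = ⊤) :
    ∃ D : ℤ, D ≠ 0 ∧ ∀ x : 𝓞 K, D • x ∈ Algebra.adjoin ℤ {θ} := by
  classical
  obtain ⟨S, hS⟩ := (Module.Finite.fg_top : (⊤ : Submodule ℤ (𝓞 K)).FG)
  choose n hn hn' using exists_denom θ hθ
  refine ⟨∏ s ∈ S, n s, Finset.prod_ne_zero_iff.2 fun s _ => hn s, fun x => ?_⟩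
  have hx : x ∈ Submodule.span ℤ (S : Set (𝓞 K)) := hS ▸ Submodule.mem_top
  induction hx using Submodule.span_induction with
  | mem s hs =>
    rw [← Finset.prod_erase_mul S n hs, mul_smul]
    exact Subalgebra.smul_mem _ (hn' s) _
  | zero => rw [smul_zero]; exact zero_mem _
  | add a b _ _ ha hb => rw [smul_add]; exact add_mem ha hb
  | smul c a _ ha => rw [smul_comm]; exact Subalgebra.smul_mem _ ha _

/-- in a Galois number field with a real embedding there are primes `r ≡ 3 mod 4` splitting completely -/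
theorem exists_prime_galois [IsGalois ℚ K] (φ : K →+* ℝ) (N : ℕ) (hN : 0 < N) :
    ∃ r : ℕ, r.Prime ∧ r % 4 = 3 ∧ ¬ r ∣ N ∧ ∀ x : 𝓞 K, (r : 𝓞 K) ∣ x ^ r - x := by
  obtain ⟨θ, hθ⟩ := exists_integral_primitive (K := K)
  obtain ⟨D, hD0, hD⟩ := exists_denom' θ hθ
  have hint : IsIntegral ℤ θ := Algebra.IsIntegral.isIntegral θ
  have hmap : (minpoly ℤ θ).map (Int.castRingHom ℝ) = ((minpoly ℚ (θ : K)).map (algebraMap ℚ ℝ)) := by
    rw [show (θ : K) = algebraMap (𝓞 K) K θ from rfl, minpoly.isIntegrallyClosed_eq_field_fractions ℚ K hint,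
      Polynomial.map_map]
    congr 1
  have h0 : ((minpoly ℤ θ).map (Int.castRingHom ℝ)).eval (φ (θ : K)) = 0 := by
    rw [hmap, eval_map, show algebraMap ℚ ℝ = φ.comp (algebraMap ℚ K) from Subsingleton.elim _ _]
    rw [← Polynomial.hom_eval₂, ← aeval_def, minpoly.aeval, map_zero]
  have hsep : ((minpoly ℚ (θ : K)).map (algebraMap ℚ ℝ)).Separable :=
    Polynomial.Separable.map (Algebra.IsSeparable.isSeparable ℚ (θ : K))
  have h1 : ((minpoly ℤ θ).map (Int.castRingHom ℝ)).derivative.eval (φ (θ : K)) ≠ 0 := by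
    rw [hmap]
    have := hsep.eval₂_derivative_ne_zero (RingHom.id ℝ) (x := φ (θ : K)) (by
      rw [← hmap, eval₂_id]; exact h0)
    rwa [eval₂_id] at this
  obtain ⟨r, hr, hr4, hrN, c, hc⟩ := PolVal.exists_root (minpoly ℤ θ) (minpoly.monic hint) (φ (θ : K)) h0 h1
    (N * (D.natAbs * (discr K).natAbs)) (Nat.mul_pos hN (Nat.mul_pos (Int.natAbs_pos.2 hD0)
      (Int.natAbs_pos.2 (discr_ne_zero K))))
  refine ⟨r, hr, hr4, fun h => hrN (h.mul_right _), fun x => ?_⟩
  refine Split.split_of_root θ D hD r hr (fun h => hrN ?_) (fun h => hrN ?_) c hc x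
  · exact Dvd.dvd.mul_left (Dvd.dvd.mul_right (Int.natCast_dvd.1 h) _) _
  · exact Dvd.dvd.mul_left (Dvd.dvd.mul_left (Int.natCast_dvd.1 h) _) _

end Galois

section Closure

variable {F : Type*} [Field F] [NumberField F] [IsTotallyReal F]

/-- the polynomial whose splitting field is the field of definition of `√d` -/
noncomputable def pol (α d : F) : ℚ[X] := minpoly ℚ α * (minpoly ℚ d).comp (X ^ 2)

theorem real_of_root (α d : F) (hd : ∀ φ : F →+* ℝ, 0 < φ d) (z : ℂ) (hz : z ∈ (pol α d).rootSet ℂ) :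
    ∃ x : ℝ, (x : ℂ) = z := by
  have hz' := (mem_rootSet.1 hz).2
  rw [pol, map_mul, mul_eq_zero] at hz'
  rcases hz' with h | h
  · have h1 : z ∈ (minpoly ℚ α).rootSet ℂ :=
      mem_rootSet.2 ⟨minpoly.ne_zero (Algebra.IsIntegral.isIntegral α), h⟩
    rw [← Algebra.IsAlgebraic.range_eval_eq_rootSet_minpoly ℂ α] at h1
    obtain ⟨ψ, rfl⟩ := h1
    exact ⟨(IsTotallyReal.complexEmbedding_isReal (ψ : F →+* ℂ)).embedding α,
      ComplexEmbedding.IsReal.coe_embedding_apply _ _⟩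
  · rw [aeval_comp, map_pow, aeval_X] at h
    have h1 : z ^ 2 ∈ (minpoly ℚ d).rootSet ℂ :=
      mem_rootSet.2 ⟨minpoly.ne_zero (Algebra.IsIntegral.isIntegral d), h⟩
    rw [← Algebra.IsAlgebraic.range_eval_eq_rootSet_minpoly ℂ d] at h1
    obtain ⟨ψ, hψ⟩ := h1
    have h2 := hd (IsTotallyReal.complexEmbedding_isReal (ψ : F →+* ℂ)).embedding
    have h3 : (((IsTotallyReal.complexEmbedding_isReal (ψ : F →+* ℂ)).embedding d : ℝ) : ℂ) = z ^ 2 := by
      rw [ComplexEmbedding.IsReal.coe_embedding_apply]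
      exact hψ
    refine ⟨z.re, ?_⟩
    generalize (IsTotallyReal.complexEmbedding_isReal (ψ : F →+* ℂ)).embedding d = t at h2 h3
    have h4 := congrArg Complex.im h3
    have h5 := congrArg Complex.re h3
    rw [sq, Complex.mul_im, Complex.ofReal_im] at h4
    rw [sq, Complex.mul_re, Complex.ofReal_re] at h5
    have h6 : z.im = 0 := by
      have h7 : z.re * z.im = 0 := by linarith
      rcases mul_eq_zero.1 h7 with h8 | h8
      · rw [h8] at h5
        nlinarith
      · exact h8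
    apply Complex.ext <;> simp [h6]

/-- there is a Galois number field inside `ℝ` containing `F` and a square root of `d` -/
theorem exists_closure (d : F) (hd : ∀ φ : F →+* ℝ, 0 < φ d) :
    ∃ (K : Type) (_ : Field K) (_ : NumberField K), IsGalois ℚ K ∧ Nonempty (K →+* ℝ) ∧
      ∃ (j : F →+* K) (s : K), s ^ 2 = j d := by
  obtain ⟨α, hα⟩ := Field.exists_primitive_element ℚ F
  have hsplit : ((pol α d).map (algebraMap ℚ ℂ)).Splits := IsAlgClosed.splits _
  have hne : pol α d ≠ 0 := by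
    refine mul_ne_zero (minpoly.ne_zero (Algebra.IsIntegral.isIntegral α)) ?_
    rw [Ne, Polynomial.comp_eq_zero_iff]
    rintro (h | ⟨_, h⟩)
    · exact minpoly.ne_zero (Algebra.IsIntegral.isIntegral d) h
    · have := congrArg natDegree h
      rw [natDegree_X_pow, natDegree_C] at this
      omega
  let K : IntermediateField ℚ ℂ := IntermediateField.adjoin ℚ ((pol α d).rootSet ℂ)
  have hK : (pol α d).IsSplittingField ℚ K := IntermediateField.adjoin_rootSet_isSplittingField hsplit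
  have hfin : FiniteDimensional ℚ K := hK.finiteDimensional _ _
  have hnf : NumberField K := { }
  have hnorm : Normal ℚ K := Normal.of_isSplittingField (pol α d)
  have hgal : IsGalois ℚ K := { }
  obtain ⟨ψ⟩ : Nonempty (F →ₐ[ℚ] ℂ) := ⟨IsAlgClosed.lift⟩
  have hψ : ∀ x : F, ψ x ∈ K := by
    have h1 : IntermediateField.adjoin ℚ {α} ≤ K.comap ψ := by
      rw [IntermediateField.adjoin_le_iff, Set.singleton_subset_iff]
      refine IntermediateField.subset_adjoin _ _ (mem_rootSet.2 ⟨hne, ?_⟩)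
      rw [pol, map_mul, show (ψ : F →+* ℂ) α = ψ α from rfl, aeval_algHom_apply, minpoly.aeval, map_zero, zero_mul]
    intro x
    exact h1 (hα ▸ IntermediateField.mem_top)
  obtain ⟨s, hs⟩ := IsAlgClosed.exists_pow_nat_eq (ψ d) (n := 2) (by norm_num)
  have hsK : s ∈ K := by
    refine IntermediateField.subset_adjoin _ _ (mem_rootSet.2 ⟨hne, ?_⟩)
    rw [pol, map_mul, aeval_comp, map_pow, aeval_X, hs, aeval_algHom_apply, minpoly.aeval ℚ d,
      map_zero, mul_zero]
  have hreal : ∀ x : K, ∃ y : ℝ, (y : ℂ) = x := by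
    have h1 : K ≤ (Complex.ofRealAm.restrictScalars ℚ).fieldRange := by
      rw [IntermediateField.adjoin_le_iff]
      intro z hz
      obtain ⟨x, hx⟩ := real_of_root α d hd z hz
      exact ⟨x, hx⟩
    intro x
    obtain ⟨y, hy⟩ := h1 x.2
    exact ⟨y, hy⟩
  have hc : ComplexEmbedding.IsReal (algebraMap K ℂ) := by
    rw [ComplexEmbedding.isReal_iff]
    ext x
    obtain ⟨y, hy⟩ := hreal x
    rw [ComplexEmbedding.conjugate_coe_eq, show algebraMap K ℂ x = (x : ℂ) from rfl, ← hy, Complex.conj_ofReal]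
  exact ⟨K, inferInstance, hnf, hgal, ⟨hc.embedding⟩, (ψ : F →+* ℂ).codRestrict K hψ, ⟨s, hsK⟩,
    Subtype.ext hs⟩

/-- divisibility by an integer descends along an extension of number fields -/
theorem dvd_of_dvd_map {F K : Type*} [Field F] [NumberField F] [Field K] [NumberField K] (j : F →+* K) (r : ℕ)
    (x : 𝓞 F) (h : (r : 𝓞 K) ∣ RingOfIntegers.mapRingHom j x) : (r : 𝓞 F) ∣ x := by
  rcases Nat.eq_zero_or_pos r with rfl | hr
  · rw [Nat.cast_zero, zero_dvd_iff] at h ⊢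
    have h' := congrArg (fun y : 𝓞 K => (y : K)) h
    simp only [RingOfIntegers.mapRingHom_apply, map_zero] at h'
    exact RingOfIntegers.ext (j.injective (by simpa using h'))
  obtain ⟨y, hy⟩ := h
  have hr0 : (r : F) ≠ 0 := by exact_mod_cast hr.ne'
  have hr1 : (r : K) ≠ 0 := by exact_mod_cast hr.ne'
  have h1 : j ((x : F) / r) = (y : K) := by
    have h' := congrArg (fun y : 𝓞 K => (y : K)) hy
    simp only [RingOfIntegers.mapRingHom_apply, map_mul, map_natCast] at h'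
    rw [map_div₀, map_natCast, h', mul_div_cancel_left₀ _ hr1]
  have h2 : IsIntegral ℤ ((x : F) / r) := by
    have h3 : IsIntegral ℤ (j ((x : F) / r)) := h1 ▸ y.2
    exact (isIntegral_algHom_iff (j.toIntAlgHom) j.injective).1 h3
  refine ⟨⟨_, h2⟩, RingOfIntegers.ext ?_⟩
  simp only [map_mul, map_natCast]
  exact (mul_div_cancel₀ _ hr0).symm

/-- **NT1**: a prime `r ≡ 3 mod 4` splitting completely in `F(√d)`, in the form `x ^ r ≡ x` -/
theorem exists_prime (d : 𝓞 F) (hd : ∀ φ : F →+* ℝ, 0 < φ d) (N : ℕ) (hN : 0 < N) :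
    ∃ r : ℕ, r.Prime ∧ r % 4 = 3 ∧ ¬ r ∣ N ∧ (∀ x : 𝓞 F, (r : 𝓞 F) ∣ x ^ r - x) ∧
      (∃ η : 𝓞 F, (r : 𝓞 F) ∣ η ^ 2 - d) ∧ IsCoprime (r : 𝓞 F) d := by
  obtain ⟨K, _, _, hgal, ⟨φ⟩, j, s, hs⟩ := exists_closure (d : F) hd
  have hF : Nonempty (F →+* ℝ) := ⟨φ.comp j⟩
  have hd0 : d ≠ 0 := by
    rintro rfl
    have := hd hF.some
    simp at this
  have hn0 : Ideal.absNorm (Ideal.span {d}) ≠ 0 := by
    rw [Ne, Ideal.absNorm_eq_zero_iff, Ideal.span_singleton_eq_bot]
    exact hd0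
  obtain ⟨r, hr, hr4, hrN, hx⟩ := exists_prime_galois φ (N * Ideal.absNorm (Ideal.span {d}))
    (Nat.mul_pos hN (Nat.pos_of_ne_zero hn0))
  obtain ⟨t, ht⟩ : ∃ t : 𝓞 K, (t : K) = s := by
    refine ⟨⟨s, IsIntegral.of_pow (n := 2) (by norm_num) ?_⟩, rfl⟩
    rw [hs]
    exact d.2.map j.toIntAlgHom
  have key : ∀ x : 𝓞 F, (r : 𝓞 F) ∣ x ^ r - x := fun x => by
    refine dvd_of_dvd_map j r _ ?_
    rw [map_sub, map_pow]
    exact hx _
  refine ⟨r, hr, hr4, fun h => hrN (h.mul_right _), key, ⟨d ^ ((r + 1) / 4), ?_⟩, ?_⟩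
  · refine dvd_of_dvd_map j r _ ?_
    have h1 := hx t
    have h2 : t ^ 2 = RingOfIntegers.mapRingHom j d := by
      refine RingOfIntegers.ext ?_
      have e : ((t ^ 2 : 𝓞 K) : K) = (t : K) ^ 2 := rfl
      rw [e, ht, hs]
      rfl
    rw [map_sub, map_pow, map_pow, ← h2, ← pow_mul (t ^ 2), ← pow_mul, show 2 * ((r + 1) / 4 * 2) = r + 1 by omega]
    have h4 := h1.mul_left t
    rw [mul_sub, ← pow_succ', ← sq] at h4
    exact h4
  · have h1 : IsCoprime (r : ℤ) (Ideal.absNorm (Ideal.span {d}) : ℤ) := by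
      rw [Nat.isCoprime_iff_coprime, Nat.Prime.coprime_iff_not_dvd hr]
      exact fun h => hrN (h.mul_left _)
    have h2 := h1.map (Int.castRingHom (𝓞 F))
    simp only [eq_intCast, Int.cast_natCast] at h2
    exact h2.of_isCoprime_of_dvd_right (Ideal.mem_span_singleton.1 (Ideal.absNorm_mem _))

end Closure

end K229.NT1
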