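import Groth.Agent.AbVar.K229.NT2b
import Mathlib.RingTheory.Ideal.Norm.AbsNorm

/-!
# NT2: an integral representation of `m² d` by `x² + r (y² + z²)` with prescribed `x / m` modulo `r`
-/

set_option autoImplicit false
open NumberField Polynomial

namespace K229.NT2

section Quot

variable {Q : Type*} [CommRing Q] {r : ℕ}

theorem two_cancel (h4 : r % 4 = 3) (hr0 : (r : Q) = 0) (x : Q) (h : 2 * x = 0) : x = 0 := by
  have h1 : (r : Q) * x = x + 2 * x * ((r / 2 : ℕ) : Q) := by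
    have h2 : r = 2 * (r / 2) + 1 := by omega
    have h3 : (r : Q) = 2 * ((r / 2 : ℕ) : Q) + 1 := by exact_mod_cast congrArg (Nat.cast : ℕ → Q) h2
    rw [h3]; ring
  rw [hr0, h] at h1
  simpa using h1.symm

theorem sq_zero (h4 : r % 4 = 3) (hx : ∀ x : Q, x ^ r = x) (x : Q) (h : x ^ 2 = 0) : x = 0 := by
  rw [← hx x, show r = 2 + (r - 2) by omega, pow_add, h, zero_mul]

theorem sum_zero (h4 : r % 4 = 3) (hr0 : (r : Q) = 0) (hx : ∀ x : Q, x ^ r = x) (y z : Q) (h : y ^ 2 + z ^ 2 = 0) :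
    y = 0 := by
  obtain ⟨k, hk⟩ : ∃ k, r = 2 * (2 * k + 1) + 1 := ⟨r / 4, by omega⟩
  have h1 : y ^ 2 = -z ^ 2 := by linear_combination h
  have h2 : (y ^ 2) ^ (2 * k + 1) = -(z ^ 2) ^ (2 * k + 1) := by
    rw [h1, Odd.neg_pow ⟨k, rfl⟩]
  have h3 : y = -(y * (z ^ 2) ^ (2 * k + 1)) := by
    have := hx y
    rw [hk, pow_succ, pow_mul, h2] at this
    linear_combination -this
  have h4' : z * (z ^ 2) ^ (2 * k + 1) = z := by
    have := hx z
    rw [hk, pow_succ, pow_mul] at this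
    linear_combination this
  have h5 : y * z = 0 := by
    refine two_cancel h4 hr0 _ ?_
    linear_combination z * h3 + (-y) * h4'
  have h6 : y ^ 3 = 0 := by linear_combination y * h1 - z * h5
  have h7 : (y ^ 2) ^ 2 = 0 := by linear_combination y * h6
  exact sq_zero h4 hx y (sq_zero h4 hx _ h7)

end Quot

section Ring

variable {A : Type*} [CommRing A] {r : ℕ}

theorem dvd_of_sq (h4 : r % 4 = 3) (hx : ∀ x : A, (r : A) ∣ x ^ r - x) (x : A) (h : (r : A) ∣ x ^ 2) : (r : A) ∣ x := by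
  rw [← Ideal.mem_span_singleton, ← Ideal.Quotient.eq_zero_iff_mem] at h ⊢
  rw [map_pow] at h
  refine sq_zero h4 (fun y => ?_) _ h
  obtain ⟨y, rfl⟩ := Ideal.Quotient.mk_surjective y
  rw [← map_pow, Ideal.Quotient.eq, Ideal.mem_span_singleton]
  exact hx y

theorem dvd_of_sum (h4 : r % 4 = 3) (hx : ∀ x : A, (r : A) ∣ x ^ r - x) (y z : A) (h : (r : A) ∣ y ^ 2 + z ^ 2) :
    (r : A) ∣ y := by
  rw [← Ideal.mem_span_singleton, ← Ideal.Quotient.eq_zero_iff_mem] at h ⊢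
  rw [map_add, map_pow, map_pow] at h
  refine sum_zero h4 ?_ (fun y => ?_) _ _ h
  · rw [← map_natCast (Ideal.Quotient.mk (Ideal.span {(r : A)})), Ideal.Quotient.eq_zero_iff_mem]
    exact Ideal.mem_span_singleton_self _
  obtain ⟨y, rfl⟩ := Ideal.Quotient.mk_surjective y
  rw [← map_pow, Ideal.Quotient.eq, Ideal.mem_span_singleton]
  exact hx y

/-- removing the powers of `r` from the denominator -/
theorem reduce [IsDomain A] [CharZero A] (hr : r.Prime) (h4 : r % 4 = 3) (hx : ∀ x : A, (r : A) ∣ x ^ r - x) (d : A) :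
    ∀ (m : ℕ) (x y z : A), m ≠ 0 → x ^ 2 + r * (y ^ 2 + z ^ 2) = m ^ 2 * d →
      ∃ (m : ℕ) (x y z : A), ¬ r ∣ m ∧ x ^ 2 + r * (y ^ 2 + z ^ 2) = m ^ 2 * d := by
  intro m
  induction m using Nat.strong_induction_on with
  | _ m ih =>
    intro x y z hm h
    by_cases hrm : r ∣ m
    · obtain ⟨m', rfl⟩ := hrm
      have hr0 : (r : A) ≠ 0 := by exact_mod_cast hr.ne_zero
      have h1 : (r : A) ∣ x := dvd_of_sq h4 hx x ⟨(r : A) * m' ^ 2 * d - (y ^ 2 + z ^ 2), by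
        push_cast at h; linear_combination h⟩
      obtain ⟨x', rfl⟩ := h1
      have h2 : (r : A) * x' ^ 2 + (y ^ 2 + z ^ 2) = r * m' ^ 2 * d := by
        refine mul_left_cancel₀ hr0 ?_
        push_cast at h
        linear_combination h
      have h3 : (r : A) ∣ y := dvd_of_sum h4 hx y z ⟨m' ^ 2 * d - x' ^ 2, by linear_combination h2⟩
      have h3' : (r : A) ∣ z := dvd_of_sum h4 hx z y ⟨m' ^ 2 * d - x' ^ 2, by linear_combination h2⟩
      obtain ⟨y', rfl⟩ := h3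
      obtain ⟨z', rfl⟩ := h3'
      have hm' : m' ≠ 0 := by rintro rfl; simp at hm
      refine ih m' ?_ x' y' z' hm' ?_
      · have := hr.two_le
        have : 0 < m' := Nat.pos_of_ne_zero hm'
        nlinarith
      · refine mul_left_cancel₀ hr0 ?_
        linear_combination h2
    · exact ⟨m, x, y, z, hrm, h⟩

/-- the rotation -/
theorem rotate (x y z s q m d : A) (hs : s * (1 - s) = r * q) (h : x ^ 2 + r * (y ^ 2 + z ^ 2) = m ^ 2 * d) :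
    ((s ^ 4 - (1 - s) ^ 4 + (1 - r ^ 2) * (r * q ^ 2)) * x + 2 * r * q * ((1 - s) ^ 2 + r * s ^ 2) * z) ^ 2 +
      r * (((s ^ 4 + (1 - s) ^ 4 + (1 + r ^ 2) * (r * q ^ 2)) * y) ^ 2 +
        ((s ^ 4 - (1 - s) ^ 4 + (1 - r ^ 2) * (r * q ^ 2)) * z - 2 * q * ((1 - s) ^ 2 + r * s ^ 2) * x) ^ 2) =
      ((s ^ 4 + (1 - s) ^ 4 + (1 + r ^ 2) * (r * q ^ 2)) * m) ^ 2 * d := by
  have key : (s ^ 4 - (1 - s) ^ 4 + (1 - r ^ 2) * (r * q ^ 2)) ^ 2 + r * (2 * q * ((1 - s) ^ 2 + r * s ^ 2)) ^ 2 =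
      (s ^ 4 + (1 - s) ^ 4 + (1 + r ^ 2) * (r * q ^ 2) : A) ^ 2 := by
    linear_combination (-4 * (s * (1 - s) - r * q) * (s * (1 - s) + r * q) ^ 2) * hs
  linear_combination (s ^ 4 + (1 - s) ^ 4 + (1 + r ^ 2) * (r * q ^ 2) : A) ^ 2 * h + (x ^ 2 + r * z ^ 2) * key

end Ring

section Field

variable {F : Type} [Field F] [NumberField F]

/-- clearing denominators -/
theorem clear (x y z d : F) (r : ℕ) (h : x ^ 2 + r * (y ^ 2 + z ^ 2) = d) :
    ∃ (m : ℕ) (x' y' z' : 𝓞 F), m ≠ 0 ∧ (x' : F) ^ 2 + r * ((y' : F) ^ 2 + (z' : F) ^ 2) = m ^ 2 * d := by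
  have key : ∀ x : F, ∃ (m : ℕ) (a : 𝓞 F), m ≠ 0 ∧ (a : F) = m * x := fun x => by
    obtain ⟨m, hm, hint⟩ := IsAlgebraic.exists_integral_multiple (R := ℤ) (A := F) (z := x)
      ((IsFractionRing.isAlgebraic_iff ℤ ℚ F).2 (Algebra.IsAlgebraic.isAlgebraic x))
    refine ⟨m.natAbs, ⟨m.natAbs * x, ?_⟩, Int.natAbs_ne_zero.2 hm, rfl⟩
    rcases Int.natAbs_eq m with h | h
    · have e : (m.natAbs : F) * x = m • x := by
        rw [zsmul_eq_mul]
        congr 1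
        rw [← Int.cast_natCast, ← h]
      rw [e]; exact hint
    · have e : (m.natAbs : F) * x = -(m • x) := by
        rw [zsmul_eq_mul, ← neg_mul]
        congr 1
        rw [← Int.cast_natCast, ← Int.cast_neg, eq_comm]
        congr 1
        omega
      rw [e]; exact hint.neg
  obtain ⟨m₁, a, hm₁, ha⟩ := key x
  obtain ⟨m₂, b, hm₂, hb⟩ := key y
  obtain ⟨m₃, c, hm₃, hc⟩ := key z
  refine ⟨m₁ * m₂ * m₃, m₂ * m₃ * a, m₁ * m₃ * b, m₁ * m₂ * c, mul_ne_zero (mul_ne_zero hm₁ hm₂) hm₃, ?_⟩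
  simp only [map_mul, map_natCast, ha, hb, hc]
  push_cast
  linear_combination (m₁ * m₂ * m₃ : F) ^ 2 * h

/-- an element prime to `r` divides a natural number prime to `r` -/
theorem exists_nat_multiple (r : ℕ) (hr : r.Prime) (D : 𝓞 F) (hD0 : D ≠ 0) (hD : IsCoprime (r : 𝓞 F) D) :
    ∃ n : ℕ, ¬ r ∣ n ∧ D ∣ (n : 𝓞 F) := by
  classical
  have hex : ∃ n : ℕ, n ≠ 0 ∧ D ∣ (n : 𝓞 F) := by
    refine ⟨Ideal.absNorm (Ideal.span {D}), ?_, Ideal.mem_span_singleton.1 (Ideal.absNorm_mem _)⟩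
    rw [Ne, Ideal.absNorm_eq_zero_iff, Ideal.span_singleton_eq_bot]
    exact hD0
  refine ⟨Nat.find hex, ?_, (Nat.find_spec hex).2⟩
  rintro ⟨n', hn'⟩
  have h1 := (Nat.find_spec hex).1
  have h2 := (Nat.find_spec hex).2
  rw [hn'] at h2
  push_cast at h2
  have h3 : D ∣ (n' : 𝓞 F) := hD.symm.dvd_of_dvd_mul_left h2
  have hn0 : n' ≠ 0 := by rintro rfl; rw [mul_zero] at hn'; exact h1 hn'
  have h4 := Nat.find_min' hex ⟨hn0, h3⟩
  rw [hn'] at h4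
  have : 2 ≤ r := hr.two_le
  have : 0 < n' := Nat.pos_of_ne_zero hn0
  nlinarith

/-- **NT2** -/
theorem exists_rep [IsTotallyReal F] (d : 𝓞 F) (hd : ∀ σ : F →+* ℝ, 0 < σ d) (r : ℕ) (hr : r.Prime)
    (h4 : r % 4 = 3) (hx : ∀ x : 𝓞 F, (r : 𝓞 F) ∣ x ^ r - x) (hcop : IsCoprime (r : 𝓞 F) d) (h : 𝓞 F)
    (hh : (r : 𝓞 F) ∣ h ^ 2 - d) :
    ∃ (m : ℕ) (x y z : 𝓞 F), ¬ r ∣ m ∧ x ^ 2 + r * (y ^ 2 + z ^ 2) = m ^ 2 * d ∧ (r : 𝓞 F) ∣ x - m * h := by
  obtain ⟨x, y, z, hxyz⟩ := exists_sum d hd r hr h4 hcop h hh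
  obtain ⟨m, x, y, z, hm, e⟩ := clear x y z (d : F) r hxyz
  have e' : x ^ 2 + r * (y ^ 2 + z ^ 2) = m ^ 2 * d := RingOfIntegers.ext (by
    simp only [map_add, map_mul, map_pow, map_natCast]
    exact e)
  obtain ⟨m, x, y, z, hm, e⟩ := reduce hr h4 hx d m x y z hm e'
  -- inverse of `m h`
  have hmr : IsCoprime (r : 𝓞 F) (m : 𝓞 F) := by
    have h1 : IsCoprime (r : ℤ) (m : ℤ) := by
      rw [Nat.isCoprime_iff_coprime, Nat.Prime.coprime_iff_not_dvd hr]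
      exact hm
    have h2 := h1.map (Int.castRingHom (𝓞 F))
    simpa only [eq_intCast, Int.cast_natCast] using h2
  have hhr : IsCoprime (r : 𝓞 F) h := by
    have h5 : IsCoprime (r : 𝓞 F) (h ^ 2) := by
      obtain ⟨q, hq⟩ := hh
      rw [show h ^ 2 = d + r * q by rw [← hq]; ring]
      exact hcop.add_mul_left_right q
    exact (IsCoprime.pow_right_iff two_pos).1 h5
  obtain ⟨a, u, hu⟩ := hmr.mul_right hhr
  obtain ⟨qh, hqh⟩ := hh
  obtain ⟨k, hk⟩ : ∃ k : ℕ, r = 2 * k + 1 := ⟨r / 2, by omega⟩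
  have hk' : (r : 𝓞 F) = 2 * k + 1 := by exact_mod_cast congrArg (Nat.cast : ℕ → 𝓞 F) hk
  -- `w = (r + 1) / 2 = k + 1`, `s = w (1 + u x)`
  set s : 𝓞 F := (k + 1) * (1 + u * x) with hs
  have hE : (u * x) ^ 2 - 1 = r * (-2 * a + a ^ 2 * r - u ^ 2 * (m ^ 2 * qh + y ^ 2 + z ^ 2)) := by
    linear_combination u ^ 2 * e - u ^ 2 * m ^ 2 * hqh + (u * (m * h) + 1 - a * r) * hu
  obtain ⟨q, hq⟩ : (r : 𝓞 F) ∣ s * (1 - s) := by
    refine ⟨-(k + 1) ^ 2 * (-2 * a + a ^ 2 * r - u ^ 2 * (m ^ 2 * qh + y ^ 2 + z ^ 2)) - s, ?_⟩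
    rw [hs]
    linear_combination (-(k + 1) ^ 2) * hE + (k + 1) * (1 + u * x) * hk'
  have hrot := rotate x y z s q (m : 𝓞 F) d hq e
  set D : 𝓞 F := s ^ 4 + (1 - s) ^ 4 + (1 + r ^ 2) * (r * q ^ 2) with hDdef
  set A' : 𝓞 F := s ^ 4 - (1 - s) ^ 4 + (1 - r ^ 2) * (r * q ^ 2) with hA'
  have hD1 : D - 1 = r * (-4 * q + 2 * r * q ^ 2 + (1 + r ^ 2) * q ^ 2) := by
    rw [hDdef]
    linear_combination (-4 + 2 * (s * (1 - s) + r * q)) * hq
  have hA1 : A' - u * x = r * ((1 - r ^ 2) * q ^ 2 - 2 * q * (2 * s - 1) + (1 + u * x)) := by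
    rw [hA']
    have h2s : 2 * s - 1 - u * x = r * (1 + u * x) := by
      rw [hs]
      linear_combination (-(1 + u * x)) * hk'
    linear_combination (-2 * (2 * s - 1)) * hq + h2s
  have hux : u * x * x - m * h = r * (-(u * (m ^ 2 * qh + y ^ 2 + z ^ 2)) - a * (m * h)) := by
    linear_combination u * e - u * m ^ 2 * hqh + m * h * hu
  have hDc : IsCoprime (r : 𝓞 F) D := ⟨-(-4 * q + 2 * r * q ^ 2 + (1 + r ^ 2) * q ^ 2), 1, by
    linear_combination hD1⟩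
  have hD0 : D ≠ 0 := fun h0 => by
    obtain ⟨φ⟩ := exists_real F
    have h5 : φ ((D : 𝓞 F) : F) = 0 := by rw [h0]; simp
    have h6 : ((D : 𝓞 F) : F) = (s : F) ^ 4 + (1 - (s : F)) ^ 4 + (1 + r ^ 2) * (r * (q : F) ^ 2) := by
      rw [hDdef]
      simp only [map_add, map_mul, map_pow, map_sub, map_one, map_natCast]
    rw [h6] at h5
    simp only [map_add, map_mul, map_pow, map_sub, map_one, map_natCast] at h5
    have h7 : (0 : ℝ) ≤ (1 + (r : ℝ) ^ 2) * (r * φ (q : F) ^ 2) := by positivity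
    generalize φ (s : F) = t at h5
    have e1 : (1 / 2 : ℝ) ≤ t ^ 2 + (1 - t) ^ 2 := by nlinarith [sq_nonneg (2 * t - 1)]
    have e2 : (t ^ 2 + (1 - t) ^ 2) ^ 2 ≤ 2 * (t ^ 4 + (1 - t) ^ 4) := by
      nlinarith [sq_nonneg (t ^ 2 - (1 - t) ^ 2)]
    have e3 : (1 / 2 : ℝ) ^ 2 ≤ (t ^ 2 + (1 - t) ^ 2) ^ 2 := pow_le_pow_left₀ (by norm_num) e1 2
    norm_num at e3
    linarith
  obtain ⟨n, hn, D', hD'⟩ := exists_nat_multiple r hr D hD0 hDc
  refine ⟨n * m, D' * (A' * x + 2 * r * q * ((1 - s) ^ 2 + r * s ^ 2) * z), D' * (D * y),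
    D' * (A' * z - 2 * q * ((1 - s) ^ 2 + r * s ^ 2) * x), fun h' => (hr.dvd_mul.1 h').elim hn hm, ?_, ?_⟩
  · push_cast
    rw [hD']
    linear_combination D' ^ 2 * hrot
  · push_cast
    rw [hD']
    refine ⟨D' * (((1 - r ^ 2) * q ^ 2 - 2 * q * (2 * s - 1) + (1 + u * x)) * x +
      2 * q * ((1 - s) ^ 2 + r * s ^ 2) * z + (-(u * (m ^ 2 * qh + y ^ 2 + z ^ 2)) - a * (m * h)) -
      (-4 * q + 2 * r * q ^ 2 + (1 + r ^ 2) * q ^ 2) * (m * h)), ?_⟩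
    linear_combination D' * x * hA1 + D' * hux - D' * (m * h) * hD1

end Field

end K229.NT2
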