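import Mathlib.RingTheory.Henselian
import Mathlib.FieldTheory.Finite.Basic
import Mathlib.RingTheory.AdjoinRoot
import Mathlib.RingTheory.Norm.Basic
import Mathlib.Tactic.LinearCombination
import Mathlib.Tactic.ComputeDegree

/-!
# Sums of two squares in henselian local rings, and norms from `k[X]/(X² - b)`
-/

set_option autoImplicit false
open Polynomial IsLocalRing

namespace K229.SumSq

section Hensel

variable {R : Type*} [CommRing R] [HenselianLocalRing R]

/-- square roots -/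
theorem exists_sqrt (c a : R) (h2 : IsUnit (2 : R)) (ha : IsUnit a) (h : a ^ 2 - c ∈ maximalIdeal R) :
    ∃ s : R, s ^ 2 = c := by
  obtain ⟨s, hs, -⟩ := HenselianLocalRing.is_henselian (X ^ 2 - C c) (monic_X_pow_sub_C c two_ne_zero) a
    (by simpa using h) (by simpa [one_add_one_eq_two] using h2.mul ha)
  refine ⟨s, ?_⟩
  have : s ^ 2 - c = 0 := by simpa [IsRoot] using hs
  exact sub_eq_zero.1 this

omit [HenselianLocalRing R] in
theorem sum_of_i (c i : R) (h2 : IsUnit (2 : R)) (hi : i ^ 2 = -1) : ∃ s t : R, s ^ 2 + t ^ 2 = c := by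
  obtain ⟨u, hu⟩ := h2
  have hu' : (2 : R) * ↑u⁻¹ = 1 := by rw [← hu, Units.mul_inv]
  -- (s + i t) = c, (s - i t) = 1
  refine ⟨(c + 1) * ↑u⁻¹, -(i * ((c - 1) * ↑u⁻¹)), ?_⟩
  generalize (↑u⁻¹ : R) = w at hu'
  linear_combination ((c - 1) * w) ^ 2 * hi + c * (1 + 2 * w) * hu'

theorem sum_of_unit (c a b : R) (h2 : IsUnit (2 : R)) (ha : IsUnit a) (h : a ^ 2 + b ^ 2 - c ∈ maximalIdeal R) :
    ∃ s t : R, s ^ 2 + t ^ 2 = c := by
  obtain ⟨s, hs⟩ := exists_sqrt (c - b ^ 2) a h2 ha (by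
    rw [show a ^ 2 - (c - b ^ 2) = a ^ 2 + b ^ 2 - c by ring]; exact h)
  exact ⟨s, b, by rw [hs]; ring⟩

theorem sqrt_one_mod_eight (e : R) (h2 : (2 : R) ∈ maximalIdeal R) : ∃ s : R, s ^ 2 = 1 + 8 * e := by
  obtain ⟨y, hy, -⟩ := HenselianLocalRing.is_henselian (X ^ 2 + X - C (2 * e)) (by monicity!) 0
    (by simpa using Ideal.mul_mem_right _ _ h2) (by simp)
  have hy' : y ^ 2 + y - 2 * e = 0 := by simpa [IsRoot] using hy
  exact ⟨1 + 2 * y, by linear_combination 4 * hy'⟩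

theorem sum_of_two (c : ℤ) (h2 : (2 : R) ∈ maximalIdeal R) (hc : c % 4 = 1) :
    ∃ s t : R, s ^ 2 + t ^ 2 = (c : R) := by
  have h8 : c % 8 = 1 ∨ c % 8 = 5 := by omega
  rcases h8 with h8 | h8
  · obtain ⟨e, he⟩ : ∃ e : ℤ, c = 1 + 8 * e := ⟨c / 8, by omega⟩
    obtain ⟨s, hs⟩ := sqrt_one_mod_eight (e : R) h2
    refine ⟨s, 0, ?_⟩
    rw [hs, he]
    push_cast
    ring
  · obtain ⟨e, he⟩ : ∃ e : ℤ, c = 5 + 8 * e := ⟨c / 8, by omega⟩
    obtain ⟨s, hs⟩ := sqrt_one_mod_eight (e : R) h2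
    refine ⟨s, 2, ?_⟩
    rw [hs, he]
    push_cast
    ring

end Hensel

section Norm

variable {k : Type*} [Field k] (b : k)

/-- the basis `1, √b` -/
noncomputable def bas : Module.Basis (Fin 2) k (AdjoinRoot (X ^ 2 - C b : k[X])) :=
  (AdjoinRoot.powerBasis' (monic_X_pow_sub_C b two_ne_zero)).basis.reindex
    (finCongr (natDegree_X_pow_sub_C (n := 2) (r := b)))

theorem bas_zero : bas b 0 = 1 := by
  rw [bas, Module.Basis.reindex_apply, PowerBasis.basis_eq_pow]
  simp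

theorem bas_one : bas b 1 = AdjoinRoot.root _ := by
  rw [bas, Module.Basis.reindex_apply, PowerBasis.basis_eq_pow]
  simp

theorem exists_rep (y : AdjoinRoot (X ^ 2 - C b : k[X])) : ∃ s t : k,
    y = algebraMap k _ s + algebraMap k _ t * AdjoinRoot.root _ := by
  refine ⟨(bas b).repr y 0, (bas b).repr y 1, ?_⟩
  conv_lhs => rw [← (bas b).sum_repr y]
  rw [Fin.sum_univ_two, bas_zero, bas_one, Algebra.smul_def, Algebra.smul_def, mul_one]

theorem root_sq : (AdjoinRoot.root (X ^ 2 - C b : k[X])) ^ 2 = algebraMap k _ b := by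
  have h : AdjoinRoot.mk (X ^ 2 - C b : k[X]) (X ^ 2 - C b) = 0 := AdjoinRoot.mk_self
  rw [map_sub, map_pow, AdjoinRoot.mk_X, AdjoinRoot.mk_C, sub_eq_zero] at h
  exact h

theorem norm_eq (s t : k) :
    Algebra.norm k (algebraMap k (AdjoinRoot (X ^ 2 - C b : k[X])) s + algebraMap k _ t * AdjoinRoot.root _) =
      s ^ 2 - b * t ^ 2 := by
  rw [Algebra.norm_eq_matrix_det (bas b), Matrix.det_fin_two]
  have e0 : (algebraMap k (AdjoinRoot (X ^ 2 - C b : k[X])) s + algebraMap k _ t * AdjoinRoot.root _) * bas b 0 =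
      s • bas b 0 + t • bas b 1 := by
    rw [bas_zero, bas_one, Algebra.smul_def, Algebra.smul_def, mul_one, mul_one]
  have e1 : (algebraMap k (AdjoinRoot (X ^ 2 - C b : k[X])) s + algebraMap k _ t * AdjoinRoot.root _) * bas b 1 =
      (t * b) • bas b 0 + s • bas b 1 := by
    rw [bas_zero, bas_one, Algebra.smul_def, Algebra.smul_def, map_mul]
    linear_combination algebraMap k _ t * root_sq b
  simp only [Algebra.leftMulMatrix_eq_repr_mul, e0, e1, map_add, map_smul, Module.Basis.repr_self,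
    Finsupp.add_apply, Finsupp.smul_apply, smul_eq_mul]
  simp
  ring

end Norm

end K229.SumSq
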