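import Groth.Agent.Etbc.H224.Hasse3
import Groth.Agent.AbVar.K229.SumSq
import Mathlib.NumberTheory.NumberField.InfinitePlace.TotallyRealComplex

/-!
# `-r` is a sum of two squares in `F(√-d)` (Hasse norm theorem)
-/

set_option autoImplicit false
open NumberField IsDedekindDomain Polynomial IsLocalRing

namespace K229.NT2

section Local

variable {L : Type} [Field L] [NumberField L] (v : HeightOneSpectrum (𝓞 L))

theorem mem_max (x : 𝓞 L) :
    algebraMap (𝓞 L) (v.adicCompletionIntegers L) x ∈ maximalIdeal (v.adicCompletionIntegers L) ↔ x ∈ v.asIdeal := by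
  rw [Groth.Agent.Etbc.H222.AdicLF.mem_max_iff, ← v.valuation_lt_one_iff_mem (K := L)]
  have h : ((algebraMap (𝓞 L) (v.adicCompletionIntegers L) x : v.adicCompletionIntegers L) : v.adicCompletion L) =
    (((x : L) : L) : v.adicCompletion L) := rfl
  rw [h, HeightOneSpectrum.valuedAdicCompletion_eq_valuation']

theorem isUnit_of (x : 𝓞 L) (hx : x ∉ v.asIdeal) : IsUnit (algebraMap (𝓞 L) (v.adicCompletionIntegers L) x) := by
  by_contra h
  exact hx ((mem_max v x).1 ((mem_maximalIdeal _).2 h))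

/-- local solvability -/
theorem local_sum (r : ℕ) (h4 : r % 4 = 3) (a₀ : 𝓞 L) (ha₀ : (r : 𝓞 L) ∣ a₀ ^ 2 + 1) :
    ∃ s t : v.adicCompletionIntegers L, s ^ 2 + t ^ 2 = -(r : v.adicCompletionIntegers L) := by
  have := Groth.Agent.Etbc.H224.Inputs.hens L v
  have hcast : ∀ n : ℕ, algebraMap (𝓞 L) (v.adicCompletionIntegers L) n = n := fun n => map_natCast _ n
  have hcast' : ∀ n : ℤ, algebraMap (𝓞 L) (v.adicCompletionIntegers L) n = n := fun n => map_intCast _ n
  by_cases h2 : ((2 : ℕ) : 𝓞 L) ∈ v.asIdeal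
  · have h2' : (2 : v.adicCompletionIntegers L) ∈ maximalIdeal (v.adicCompletionIntegers L) := by
      have := (mem_max v _).2 h2
      rw [hcast] at this
      exact_mod_cast this
    obtain ⟨s, t, h⟩ := SumSq.sum_of_two (R := v.adicCompletionIntegers L) (-(r : ℤ)) h2' (by omega)
    exact ⟨s, t, by rw [h]; push_cast; rfl⟩
  have h2' : IsUnit (2 : v.adicCompletionIntegers L) := by
    have := isUnit_of v _ h2
    rw [hcast] at this
    exact_mod_cast this
  by_cases hrv : (r : 𝓞 L) ∈ v.asIdeal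
  · -- `i` exists locally
    have h1 : algebraMap (𝓞 L) (v.adicCompletionIntegers L) (a₀ ^ 2 + 1) ∈
        maximalIdeal (v.adicCompletionIntegers L) := (mem_max v _).2 (v.asIdeal.mem_of_dvd ha₀ hrv)
    have h3 : a₀ ∉ v.asIdeal := fun h => by
      have h5 : a₀ ^ 2 + 1 ∈ v.asIdeal := v.asIdeal.mem_of_dvd ha₀ hrv
      have h6 : (1 : 𝓞 L) ∈ v.asIdeal := by
        have := v.asIdeal.sub_mem h5 (v.asIdeal.mul_mem_left a₀ h)
        rwa [← sq, add_sub_cancel_left] at this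
      exact v.isPrime.ne_top ((Ideal.eq_top_iff_one _).2 h6)
    obtain ⟨i, hi⟩ := SumSq.exists_sqrt (-1) (algebraMap (𝓞 L) (v.adicCompletionIntegers L) a₀) h2' (isUnit_of v _ h3)
      (by rw [sub_neg_eq_add, ← map_pow, ← map_one (algebraMap (𝓞 L) (v.adicCompletionIntegers L)), ← map_add]; exact h1)
    exact SumSq.sum_of_i _ i h2' hi
  · -- residue characteristic
    obtain ⟨l, hl⟩ : ∃ l : ℕ, CharP (𝓞 L ⧸ v.asIdeal) l := CharP.exists _
    have hlv : (l : 𝓞 L) ∈ v.asIdeal := by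
      rw [← Ideal.Quotient.eq_zero_iff_mem, map_natCast]
      exact CharP.cast_eq_zero _ _
    have : Finite (𝓞 L ⧸ v.asIdeal) := v.asIdeal.finiteQuotientOfFreeOfNeBot v.ne_bot
    have : Nontrivial (𝓞 L ⧸ v.asIdeal) := Ideal.Quotient.nontrivial_iff.2 v.isPrime.ne_top
    have hlp : l.Prime := (CharP.char_is_prime_or_zero (𝓞 L ⧸ v.asIdeal) l).resolve_right
      (CharP.char_ne_zero_of_finite (𝓞 L ⧸ v.asIdeal) l)
    have := Fact.mk hlp
    obtain ⟨a, b, hab⟩ := ZMod.sq_add_sq l (-(r : ZMod l))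
    obtain ⟨a, rfl⟩ := ZMod.intCast_surjective a
    obtain ⟨b, rfl⟩ := ZMod.intCast_surjective b
    have h3 : (l : ℤ) ∣ a ^ 2 + b ^ 2 + r := by
      rw [← ZMod.intCast_zmod_eq_zero_iff_dvd]
      push_cast
      rw [hab, neg_add_cancel]
    have hint : ∀ n : ℤ, (l : ℤ) ∣ n → (n : 𝓞 L) ∈ v.asIdeal := fun n hn => by
      obtain ⟨m, rfl⟩ := hn
      push_cast
      exact v.asIdeal.mul_mem_right _ hlv
    have h4 : ((a ^ 2 + b ^ 2 + r : ℤ) : 𝓞 L) ∈ v.asIdeal := hint _ h3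
    have key : ∀ a b : ℤ, ((a ^ 2 + b ^ 2 + r : ℤ) : 𝓞 L) ∈ v.asIdeal → (a : 𝓞 L) ∉ v.asIdeal →
        ∃ s t : v.adicCompletionIntegers L, s ^ 2 + t ^ 2 = -(r : v.adicCompletionIntegers L) := by
      intro a b h5 ha
      refine SumSq.sum_of_unit _ (a : v.adicCompletionIntegers L) b h2' ?_ ?_
      · rw [← hcast']; exact isUnit_of v _ ha
      · have := (mem_max v _).2 h5
        rw [hcast'] at this
        push_cast at this
        rwa [sub_neg_eq_add]
    by_cases ha : (a : 𝓞 L) ∈ v.asIdeal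
    · refine key b a (by rwa [add_comm (b ^ 2)]) fun hb => hrv ?_
      have h5 : ((r : ℤ) : 𝓞 L) = ((a ^ 2 + b ^ 2 + r : ℤ) : 𝓞 L) - (a * a + b * b) := by
        push_cast; ring
      rw [← Int.cast_natCast, h5]
      exact v.asIdeal.sub_mem h4 (v.asIdeal.add_mem (v.asIdeal.mul_mem_left _ ha) (v.asIdeal.mul_mem_left _ hb))
    · exact key a b h4 ha

end Local

open Groth.Agent.Etbc.H226.NFDefs Groth.Agent.Etbc.H214.NormGroup in
/-- `-r` is a sum of two squares in `L` -/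
theorem global_sum (L : Type) [Field L] [NumberField L] [IsTotallyComplex L] (r : ℕ) (hr : r.Prime)
    (h4 : r % 4 = 3) (a₀ : 𝓞 L) (ha₀ : (r : 𝓞 L) ∣ a₀ ^ 2 + 1) : ∃ s t : L, s ^ 2 + t ^ 2 = -(r : L) := by
  have hr0 : (r : L) ≠ 0 := by exact_mod_cast hr.ne_zero
  have : Fact (Nat.Prime 2) := ⟨Nat.prime_two⟩
  have h := Groth.Agent.Etbc.H224.Hasse3.D2 (K := L) 2 ⟨-1, IsPrimitiveRoot.neg_one 0 (by norm_num)⟩
    (Units.mk0 (-(r : L)) (neg_ne_zero.2 hr0)) (-1) (fun v => by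
      rw [mem_normGroup_iff two_ne_zero]
      obtain ⟨s, t, hst⟩ := local_sum v r h4 a₀ ha₀
      refine ⟨algebraMap _ _ (s : v.adicCompletion L) + algebraMap _ _ (t : v.adicCompletion L) * AdjoinRoot.root _, ?_⟩
      rw [SumSq.norm_eq]
      have h1 := congrArg (fun x : v.adicCompletionIntegers L => (x : v.adicCompletion L)) hst
      push_cast at h1
      simp only [Units.val_neg, Units.val_one, map_neg, map_one, neg_mul, one_mul, sub_neg_eq_add]
      rw [h1]
      simp)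
  rw [mem_normGroup_iff two_ne_zero] at h
  obtain ⟨y, hy⟩ := h
  obtain ⟨s, t, rfl⟩ := SumSq.exists_rep _ y
  rw [SumSq.norm_eq] at hy
  refine ⟨s, t, ?_⟩
  simp only [Units.val_neg, Units.val_one, neg_mul, one_mul, sub_neg_eq_add, Units.val_mk0] at hy
  exact hy

end K229.NT2
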