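import Groth.Agent.AbVar.K229.NT2a

/-!
# The ternary form `x² + r (y² + z²)` represents `d` over a totally real field
-/

set_option autoImplicit false
open NumberField Polynomial

namespace K229.NT2

variable {F : Type} [Field F] [NumberField F] [IsTotallyReal F]

theorem exists_real (F : Type*) [Field F] [NumberField F] [IsTotallyReal F] : Nonempty (F →+* ℝ) := by
  obtain ⟨φ⟩ : Nonempty (F →+* ℂ) := inferInstance
  exact ⟨(IsTotallyReal.complexEmbedding_isReal φ).embedding⟩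

/-- from `-r = s² + t²` over `F(√-d)` to a representation over `F` -/
theorem descend (d : F) (r : ℕ) (hr : r ≠ 0) (s₁ s₂ t₁ t₂ : F)
    (h1 : s₁ ^ 2 + t₁ ^ 2 + r = d * (s₂ ^ 2 + t₂ ^ 2)) (h2 : s₁ * s₂ + t₁ * t₂ = 0) :
    ∃ x y z : F, x ^ 2 + r * (y ^ 2 + z ^ 2) = d := by
  obtain ⟨φ⟩ := exists_real F
  have hm : s₂ ^ 2 + t₂ ^ 2 ≠ 0 := fun h => by
    rw [h, mul_zero] at h1
    have h3 := congrArg φ h1
    simp only [map_add, map_pow, map_natCast, map_zero] at h3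
    have h4 : (0 : ℝ) < r := by exact_mod_cast Nat.pos_of_ne_zero hr
    nlinarith [sq_nonneg (φ s₁), sq_nonneg (φ t₁)]
  refine ⟨(t₁ * s₂ - s₁ * t₂) / (s₂ ^ 2 + t₂ ^ 2), s₂ / (s₂ ^ 2 + t₂ ^ 2), t₂ / (s₂ ^ 2 + t₂ ^ 2), ?_⟩
  field_simp
  linear_combination (s₂ ^ 2 + t₂ ^ 2) * h1 - (s₁ * s₂ + t₁ * t₂) * h2

theorem exists_quad (k : Type) [Field k] (e : k) (he : ∀ b : k, b ^ 2 ≠ e) :
    ∃ (L : Type) (_ : Field L) (_ : Algebra k L) (b : Module.Basis (Fin 2) k L), b 0 = 1 ∧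
      b 1 ^ 2 = algebraMap k L e := by
  have hirr : Irreducible (X ^ 2 - C e : k[X]) := X_pow_sub_C_irreducible_of_prime Nat.prime_two he
  have := Fact.mk hirr
  exact ⟨AdjoinRoot (X ^ 2 - C e : k[X]), inferInstance, inferInstance, SumSq.bas e, SumSq.bas_zero e, by
    rw [SumSq.bas_one, SumSq.root_sq]⟩

/-- the quadratic extension -/
theorem exists_sum (d : 𝓞 F) (hd : ∀ σ : F →+* ℝ, 0 < σ d) (r : ℕ) (hr : r.Prime) (h4 : r % 4 = 3)
    (hcop : IsCoprime (r : 𝓞 F) d) (h : 𝓞 F) (hh : (r : 𝓞 F) ∣ h ^ 2 - d) :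
    ∃ x y z : F, x ^ 2 + r * (y ^ 2 + z ^ 2) = (d : F) := by
  obtain ⟨φ⟩ := exists_real F
  obtain ⟨L, _, _, B, hB0, hB1⟩ := exists_quad F (-(d : F)) fun b hb => by
    have h3 := congrArg φ hb
    rw [map_pow, map_neg] at h3
    have := hd φ
    nlinarith [sq_nonneg (φ b)]
  rw [map_neg] at hB1
  have hfin : FiniteDimensional F L := B.finiteDimensional_of_finite
  have hc0 : CharZero L := charZero_of_injective_algebraMap (algebraMap F L).injective
  have hfin' : FiniteDimensional ℚ L := FiniteDimensional.trans ℚ F L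
  have hnf : NumberField L := { }
  have htc : IsTotallyComplex L := ⟨fun v => by
    by_contra hv
    rw [InfinitePlace.not_isComplex_iff_isReal] at hv
    have h5 := InfinitePlace.isReal_iff.1 hv
    let ψ := h5.embedding
    have h6 := hd (ψ.comp (algebraMap F L))
    have h7 := congrArg ψ hB1
    rw [map_pow, map_neg] at h7
    change ψ _ ^ 2 = - (ψ.comp (algebraMap F L)) d at h7
    nlinarith [sq_nonneg (ψ (B 1))]⟩
  -- `√-1` modulo `r`
  obtain ⟨ω, hω⟩ : ∃ ω : 𝓞 L, (ω : L) = B 1 := by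
    refine ⟨⟨B 1, IsIntegral.of_pow (n := 2) two_pos ?_⟩, rfl⟩
    rw [hB1]
    exact (d.2.map (algebraMap F L).toIntAlgHom).neg
  let j : 𝓞 F →+* 𝓞 L := RingOfIntegers.mapRingHom (algebraMap F L)
  have hω2 : ω ^ 2 = -j d := by
    refine RingOfIntegers.ext ?_
    have e : ((ω ^ 2 : 𝓞 L) : L) = (ω : L) ^ 2 := rfl
    rw [e, hω, hB1]
    rfl
  obtain ⟨u, w, huw⟩ : IsCoprime (r : 𝓞 F) h := by
    have h5 : IsCoprime (r : 𝓞 F) (h ^ 2) := by
      obtain ⟨q, hq⟩ := hh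
      rw [show h ^ 2 = d + r * q by rw [← hq]; ring]
      exact hcop.add_mul_left_right q
    exact (IsCoprime.pow_right_iff two_pos).1 h5
  have ha : (r : 𝓞 L) ∣ (j w * ω) ^ 2 + 1 := by
    obtain ⟨q, hq⟩ := hh
    have hj : (r : 𝓞 L) = j r := (map_natCast j r).symm
    rw [hj, mul_pow, hω2]
    have e : j w ^ 2 * -j d + 1 = j (w ^ 2 * (-d) + 1) := by simp
    rw [e]
    refine map_dvd j ⟨u * (1 + w * h) + w ^ 2 * q, ?_⟩
    have hq' : d = h ^ 2 - r * q := by rw [← hq]; ring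
    rw [hq']
    linear_combination (-(1 + w * h)) * huw
  obtain ⟨s, t, hst⟩ := global_sum L r hr h4 _ ha
  have hrep : ∀ y : L, ∃ a b : F, y = algebraMap F L a + algebraMap F L b * B 1 := fun y => by
    refine ⟨B.repr y 0, B.repr y 1, ?_⟩
    conv_lhs => rw [← B.sum_repr y]
    rw [Fin.sum_univ_two, hB0, Algebra.smul_def, Algebra.smul_def, mul_one]
  obtain ⟨s₁, s₂, rfl⟩ := hrep s
  obtain ⟨t₁, t₂, rfl⟩ := hrep t
  have e' : (s₁ ^ 2 + t₁ ^ 2 + r - d * (s₂ ^ 2 + t₂ ^ 2)) • B 0 + (2 * (s₁ * s₂ + t₁ * t₂)) • B 1 = 0 := by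
    rw [hB0, Algebra.smul_def, Algebra.smul_def, mul_one]
    simp only [map_sub, map_add, map_mul, map_pow, map_natCast, map_ofNat]
    linear_combination hst - (algebraMap F L s₂ ^ 2 + algebraMap F L t₂ ^ 2) * hB1
  have hlin := B.linearIndependent
  rw [Fintype.linearIndependent_iff] at hlin
  have h5 := hlin ![s₁ ^ 2 + t₁ ^ 2 + r - d * (s₂ ^ 2 + t₂ ^ 2), 2 * (s₁ * s₂ + t₁ * t₂)] (by
    rw [Fin.sum_univ_two]
    exact e')
  have h50 := h5 0
  have h51 := h5 1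
  simp only [Matrix.cons_val_zero, Matrix.cons_val_one] at h50 h51
  refine descend (d : F) r hr.ne_zero s₁ s₂ t₁ t₂ (sub_eq_zero.1 h50) ?_
  simpa using h51

end K229.NT2
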