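import Groth.Agent.AbVar.K229.Ord
import Mathlib.NumberTheory.NumberField.InfinitePlace.Embeddings
import Mathlib.RingTheory.UniqueFactorizationDomain.Multiplicity
import Mathlib.RingTheory.DedekindDomain.Ideal.Lemmas

/-!
# NT4 of the Honda–Tate interface (Kronecker)
-/

set_option autoImplicit false
open NumberField

namespace K229.NT4

variable {L : Type} [Field L] [NumberField L]

/-- a Weil number of weight `n` divides `q` -/
theorem dvd_of_norm (q : ℕ) (hq : q ≠ 0) (ϖ : 𝓞 L) (h : ∀ σ : L →+* ℂ, ‖σ ϖ‖ ^ 2 = q) : ϖ ∣ (q : 𝓞 L) := by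
  obtain ⟨σ⟩ : Nonempty (L →+* ℂ) := inferInstance
  have h0 : (ϖ : L) ≠ 0 := fun h0 => by
    have := h σ
    rw [h0, map_zero, norm_zero] at this
    norm_num at this
    exact hq (by exact_mod_cast this.symm)
  have h1 : σ ((q : L) / ϖ) = starRingEnd ℂ (σ ϖ) := by
    rw [map_div₀, map_natCast, div_eq_iff ((map_ne_zero σ).2 h0), mul_comm, Complex.mul_conj, Complex.normSq_eq_norm_sq, h σ]
    simp
  have h2 : IsIntegral ℤ ((q : L) / ϖ) := by
    refine (isIntegral_algHom_iff (σ.toIntAlgHom) σ.injective).1 ?_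
    change IsIntegral ℤ (σ _)
    rw [h1]
    exact (ϖ.2.map σ.toIntAlgHom).map (starRingEnd ℂ).toIntAlgHom
  refine ⟨⟨_, h2⟩, RingOfIntegers.ext ?_⟩
  simp only [map_mul, map_natCast]
  exact (mul_div_cancel₀ _ h0).symm

theorem main : K511.HT.NT4 := by
  intro p a hp ha L _ _ ϖ π₀ h1 h2 h3
  have hp0 : p ≠ 0 := hp.out.ne_zero
  have hϖ := dvd_of_norm p hp0 ϖ h1
  have hπ := dvd_of_norm (p ^ a) (pow_ne_zero a hp0) π₀ (fun σ => by rw [h2 σ]; push_cast; rfl)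
  have hpL : (p : 𝓞 L) ≠ 0 := by exact_mod_cast hp0
  have hϖ0 : ϖ ≠ 0 := fun h => hpL (by rw [h, zero_dvd_iff] at hϖ; exact hϖ)
  have hπ0 : π₀ ≠ 0 := fun h => by
    rw [h, zero_dvd_iff] at hπ
    push_cast at hπ
    exact hpL ((pow_eq_zero_iff ha).1 hπ)
  have key : ∀ P : Ideal (𝓞 L), P.IsMaximal → P ≠ ⊥ → K511.HT.ord P π₀ = K511.HT.ord P (ϖ ^ a) := by
    intro P hP hP0
    rw [Ord.ord_pow hP hP0 hϖ0]
    by_cases hpP : (p : 𝓞 L) ∈ P
    · exact h3 P hP hpP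
    · rw [Ord.ord_eq_zero hP hP0 (fun h => hpP (P.mem_of_dvd hϖ h)), mul_zero,
        Ord.ord_eq_zero hP hP0 (fun h => hpP ?_)]
      have := P.mem_of_dvd hπ h
      push_cast at this
      exact hP.isPrime.mem_of_pow_mem a this
  obtain ⟨u, hu⟩ : Associated (ϖ ^ a) π₀ := by
    refine associated_of_dvd_dvd ?_ ?_
    · exact Ord.dvd_of_ord (pow_ne_zero a hϖ0) hπ0 fun P hP hP0 => (key P hP hP0).ge
    · exact Ord.dvd_of_ord hπ0 (pow_ne_zero a hϖ0) fun P hP hP0 => (key P hP hP0).le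
  have hnorm : ∀ σ : L →+* ℂ, ‖σ ((u : 𝓞 L) : L)‖ = 1 := fun σ => by
    have e1 : σ (π₀ : L) = σ (ϖ : L) ^ a * σ ((u : 𝓞 L) : L) := by
      rw [← hu]
      simp
    have e2 := h2 σ
    rw [e1, norm_mul, norm_pow, mul_pow, ← pow_mul, mul_comm a 2, pow_mul, h1 σ] at e2
    have e3 : (0 : ℝ) < (p : ℝ) ^ a := by
      have := Nat.pos_of_ne_zero hp0
      positivity
    have e4 : ‖σ ((u : 𝓞 L) : L)‖ ^ 2 = 1 := by
      refine mul_left_cancel₀ e3.ne' ?_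
      rw [e2, mul_one]
    exact (pow_eq_one_iff_of_nonneg (norm_nonneg _) two_ne_zero).1 e4
  obtain ⟨n, hn, hun⟩ := Embeddings.pow_eq_one_of_norm_eq_one L ℂ (u : 𝓞 L).2 hnorm
  refine ⟨n, hn.ne', ?_⟩
  have hun' : (u : 𝓞 L) ^ n = 1 := RingOfIntegers.ext hun
  rw [← hu, mul_pow, hun', mul_one, pow_mul]

end K229.NT4
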