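import Groth.Agent.AbVar.K229.NT1
import Groth.Agent.AbVar.K229.NT2
import Groth.Agent.AbVar.K511.HT.Iface
import Mathlib.RingTheory.UniqueFactorizationDomain.Basic

/-!
# NT1 and NT2 of the Honda–Tate interface
-/

set_option autoImplicit false
open NumberField

namespace K229.NTG

variable {F : Type} [Field F] [NumberField F]

/-- from `x ^ r ≡ x` to the local form -/
theorem good_of (d : 𝓞 F) (r : ℕ) (hr : r.Prime) (h4 : r % 4 = 3) (hx : ∀ x : 𝓞 F, (r : 𝓞 F) ∣ x ^ r - x)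
    (h : 𝓞 F) (hh : (r : 𝓞 F) ∣ h ^ 2 - d) (hcop : IsCoprime (r : 𝓞 F) d) : K511.HT.Good F d r where
  prime := hr
  mod4 := h4
  norm v hv hrv := by
    let := Ideal.Quotient.field v
    have := Fact.mk hr
    have hchar : CharP (𝓞 F ⧸ v) r := by
      rw [CharP.charP_iff_prime_eq_zero hr, ← map_natCast (Ideal.Quotient.mk v), Ideal.Quotient.eq_zero_iff_mem]
      exact hrv
    have hfin : Finite (𝓞 F ⧸ v) := v.finiteQuotientOfFreeOfNeBot (fun h0 => by
      rw [h0, Ideal.mem_bot] at hrv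
      exact hr.ne_zero (by exact_mod_cast hrv))
    have := Fintype.ofFinite (𝓞 F ⧸ v)
    have hpow : ∀ y : 𝓞 F ⧸ v, y ^ r = y := fun y => by
      obtain ⟨y, rfl⟩ := Ideal.Quotient.mk_surjective y
      rw [← map_pow, Ideal.Quotient.eq]
      exact v.mem_of_dvd (hx y) hrv
    obtain ⟨n, -, hn⟩ := FiniteField.card (𝓞 F ⧸ v) r
    have hle : Fintype.card (𝓞 F ⧸ v) ≤ r := by
      classical
      have h1 : (Finset.univ : Finset (𝓞 F ⧸ v)).val ≤ (Polynomial.X ^ r - Polynomial.X : Polynomial (𝓞 F ⧸ v)).roots := by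
        rw [Finset.val_le_iff_val_subset]
        intro y _
        rw [Polynomial.mem_roots (FiniteField.X_pow_card_sub_X_ne_zero _ hr.one_lt)]
        simp [Polynomial.IsRoot, hpow]
      have h2 := Multiset.card_le_card h1
      have h3 := Polynomial.card_roots' (Polynomial.X ^ r - Polynomial.X : Polynomial (𝓞 F ⧸ v))
      rw [FiniteField.X_pow_card_sub_X_natDegree_eq _ hr.one_lt] at h3
      exact h2.trans h3
    rw [Nat.card_eq_fintype_card]
    rw [hn] at hle ⊢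
    have h1 : (n : ℕ) = 1 := by
      by_contra hne
      have h2 : 2 ≤ (n : ℕ) := by have := n.pos; omega
      have h3 := Nat.pow_le_pow_right hr.pos h2
      have h4 := hr.two_le
      nlinarith
    rw [h1, pow_one]
  unram v hv hr2 := by
    have hr0 : (r : 𝓞 F) ≠ 0 := by exact_mod_cast hr.ne_zero
    have hv0 : v ≠ ⊥ := fun h0 => hr0 (by
      rw [h0, ← Ideal.zero_eq_bot, zero_pow two_ne_zero] at hr2
      simpa using hr2)
    refine (Ideal.pow_lt_self v hv0 hv.ne_top 2 le_rfl).not_ge fun y hy => ?_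
    have h1 : y ^ r ∈ v ^ 2 := Ideal.pow_le_pow_right hr.two_le (Ideal.pow_mem_pow hy r)
    have h2 := Ideal.mem_of_dvd (v ^ 2) (hx y) hr2
    have h3 := (v ^ 2).sub_mem h1 h2
    rwa [sub_sub_cancel] at h3
  unit v hv hrv hdv := by
    obtain ⟨a, b, hab⟩ := hcop
    refine hv.ne_top ((Ideal.eq_top_iff_one v).2 ?_)
    rw [← hab]
    exact v.add_mem (v.mul_mem_left _ hrv) (v.mul_mem_left _ hdv)
  sq v hv hrv := ⟨h, v.mem_of_dvd hh hrv⟩

/-- from the local form to `x ^ r ≡ x` -/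
theorem dvd_of_good (d : 𝓞 F) (r : ℕ) (hg : K511.HT.Good F d r) (x : 𝓞 F) : (r : 𝓞 F) ∣ x ^ r - x := by
  have hr0 : (r : 𝓞 F) ≠ 0 := by exact_mod_cast hg.prime.ne_zero
  have hI : Squarefree (Ideal.span {(r : 𝓞 F)}) := by
    intro J hJ
    by_contra hu
    rw [Ideal.isUnit_iff] at hu
    obtain ⟨v, hv, hJv⟩ := Ideal.exists_le_maximal J hu
    refine hg.unram v hv ?_
    have h1 : Ideal.span {(r : 𝓞 F)} ≤ J * J := Ideal.dvd_iff_le.1 hJ
    rw [sq]
    exact Ideal.mul_mono hJv hJv (h1 (Ideal.mem_span_singleton_self _))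
  rw [← Ideal.mem_span_singleton]
  have h2 : x ^ r - x ∈ (Ideal.span {(r : 𝓞 F)}).radical := by
    rw [Ideal.radical_eq_sInf, Submodule.mem_sInf]
    rintro (v : Ideal (𝓞 F)) ⟨hle, hv⟩
    have hrv : (r : 𝓞 F) ∈ v := hle (Ideal.mem_span_singleton_self _)
    have hv0 : v ≠ ⊥ := fun h0 => hr0 (by rwa [h0, Ideal.mem_bot] at hrv)
    have hvm : v.IsMaximal := hv.isMaximal hv0
    have hcard := hg.norm v hvm hrv
    let := Ideal.Quotient.field v
    have hfin : Finite (𝓞 F ⧸ v) := v.finiteQuotientOfFreeOfNeBot hv0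
    have := Fintype.ofFinite (𝓞 F ⧸ v)
    rw [← Ideal.Quotient.eq_zero_iff_mem, map_sub, map_pow, sub_eq_zero]
    have := FiniteField.pow_card (Ideal.Quotient.mk v x)
    rwa [← Nat.card_eq_fintype_card, hcard] at this
  obtain ⟨n, hn⟩ := h2
  have h3 := hI.isRadical n (Ideal.span {x ^ r - x}) (by
    rw [Ideal.span_singleton_pow, Ideal.dvd_span_singleton]
    exact hn)
  rwa [Ideal.dvd_span_singleton] at h3

theorem coprime_of_good (d : 𝓞 F) (r : ℕ) (hg : K511.HT.Good F d r) : IsCoprime (r : 𝓞 F) d := by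
  rw [← Ideal.isCoprime_span_singleton_iff, Ideal.isCoprime_iff_sup_eq]
  by_contra h
  obtain ⟨v, hv, hle⟩ := Ideal.exists_le_maximal _ h
  rw [sup_le_iff, Ideal.span_singleton_le_iff_mem, Ideal.span_singleton_le_iff_mem] at hle
  exact hg.unit v hv hle.1 hle.2

theorem main1 : K511.HT.NT1 := by
  intro F _ _ _ d hd N hN
  obtain ⟨r, hr, h4, hrN, hx, ⟨h, hh⟩, hcop⟩ := NT1.exists_prime d hd N (Nat.pos_of_ne_zero hN)
  exact ⟨r, good_of d r hr h4 hx h hh hcop, hrN⟩

theorem main2 : K511.HT.NT2 := by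
  intro F _ _ _ d hd r hg h hh
  rw [Ideal.mem_span_singleton] at hh
  obtain ⟨m, x, y, z, hm, e, hx⟩ := NT2.exists_rep d hd r hg.prime hg.mod4 (dvd_of_good d r hg)
    (coprime_of_good d r hg) h hh
  exact ⟨m, x, y, z, hm, e, Ideal.mem_span_singleton.2 hx⟩

end K229.NTG
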