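import Groth.Agent.AbVar.K511.HT.Iface
import Mathlib.RingTheory.UniqueFactorizationDomain.Multiplicity
import Mathlib.RingTheory.DedekindDomain.Ideal.Lemmas

/-!
# The exponent of a prime ideal in an element
-/

set_option autoImplicit false
open NumberField

namespace K229.Ord

open K511.HT

variable {L : Type} [Field L] [NumberField L] {P : Ideal (𝓞 L)}

theorem prime_of (hP : P.IsMaximal) (hP0 : P ≠ ⊥) : Prime P := Ideal.prime_of_isPrime hP0 hP.isPrime

theorem finite (hP : P.IsMaximal) (hP0 : P ≠ ⊥) {x : 𝓞 L} (hx : x ≠ 0) :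
    FiniteMultiplicity P (Ideal.span {x}) :=
  FiniteMultiplicity.of_prime_left (prime_of hP hP0) (by
    rw [Ne, Ideal.zero_eq_bot, Ideal.span_singleton_eq_bot]; exact hx)

theorem emult_eq (hP : P.IsMaximal) (hP0 : P ≠ ⊥) {x : 𝓞 L} (hx : x ≠ 0) :
    emultiplicity P (Ideal.span {x}) = ord P x := (finite hP hP0 hx).emultiplicity_eq_multiplicity

theorem ord_mul (hP : P.IsMaximal) (hP0 : P ≠ ⊥) {x y : 𝓞 L} (hx : x ≠ 0) (hy : y ≠ 0) :
    ord P (x * y) = ord P x + ord P y := by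
  have h := emultiplicity_mul (prime_of hP hP0) (a := Ideal.span {x}) (b := Ideal.span {y})
  rw [Ideal.span_singleton_mul_span_singleton, emult_eq hP hP0 hx, emult_eq hP hP0 hy,
    emult_eq hP hP0 (mul_ne_zero hx hy)] at h
  exact_mod_cast h

theorem ord_pow (hP : P.IsMaximal) (hP0 : P ≠ ⊥) {x : 𝓞 L} (hx : x ≠ 0) (n : ℕ) :
    ord P (x ^ n) = n * ord P x := by
  have h := emultiplicity_pow (prime_of hP hP0) (a := Ideal.span {x}) (k := n)
  rw [Ideal.span_singleton_pow, emult_eq hP hP0 hx, emult_eq hP hP0 (pow_ne_zero n hx)] at h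
  exact_mod_cast h

theorem ord_eq_zero (hP : P.IsMaximal) (hP0 : P ≠ ⊥) {x : 𝓞 L} (hx : x ∉ P) : ord P x = 0 := by
  have hx0 : x ≠ 0 := fun h => hx (h ▸ P.zero_mem)
  have h : emultiplicity P (Ideal.span {x}) = 0 := by
    rw [emultiplicity_eq_zero, Ideal.dvd_span_singleton]
    exact hx
  rw [emult_eq hP hP0 hx0] at h
  exact_mod_cast h

theorem mem_pow_iff (hP : P.IsMaximal) (hP0 : P ≠ ⊥) {x : 𝓞 L} (hx : x ≠ 0) (n : ℕ) :
    x ∈ P ^ n ↔ n ≤ ord P x := by
  rw [← Ideal.dvd_span_singleton, pow_dvd_iff_le_emultiplicity, emult_eq hP hP0 hx]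
  exact_mod_cast Iff.rfl

theorem dvd_of_ord {x y : 𝓞 L} (hx : x ≠ 0) (hy : y ≠ 0)
    (h : ∀ P : Ideal (𝓞 L), P.IsMaximal → P ≠ ⊥ → ord P x ≤ ord P y) : x ∣ y := by
  rw [← Ideal.mem_span_singleton, ← Ideal.dvd_span_singleton, UniqueFactorizationMonoid.dvd_iff_emultiplicity_le (by
    rw [Ne, Ideal.zero_eq_bot, Ideal.span_singleton_eq_bot]; exact hx)]
  intro P hP
  have hP0 : P ≠ ⊥ := hP.ne_zero
  have hPm : P.IsMaximal := (Ideal.isPrime_of_prime hP).isMaximal hP0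
  rw [emult_eq hPm hP0 hx, emult_eq hPm hP0 hy]
  exact_mod_cast h P hPm hP0

end K229.Ord
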