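import Mathlib.RingTheory.Polynomial.ScaleRoots
import Mathlib.Analysis.Calculus.Deriv.Polynomial
import Mathlib.Analysis.Calculus.LocalExtr.Basic
import Mathlib.Data.Nat.Factorization.Basic
import Mathlib.Algebra.Field.ZMod
import Mathlib.RingTheory.Int.Basic
import Mathlib.Topology.Algebra.Polynomial
import Mathlib.Algebra.Order.Archimedean.Real.Basic

/-!
# A polynomial with a simple real root has a root modulo a prime `r ≡ 3 mod 4`
-/

set_option autoImplicit false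
open Polynomial

namespace K229.PolVal

/-- a natural number `≡ 3 mod 4` has a prime factor `≡ 3 mod 4` -/
theorem exists_prime_three (m : ℕ) (hm : m % 4 = 3) : ∃ p : ℕ, p.Prime ∧ p ∣ m ∧ p % 4 = 3 := by
  by_contra! h
  have hm0 : m ≠ 0 := by rintro rfl; omega
  have h2 : ∀ l : List ℕ, (∀ p ∈ l, p % 4 = 1) → l.prod % 4 = 1 := by
    intro l
    induction l with
    | nil => intro _; rfl
    | cons a l ih =>
      intro hl
      rw [List.prod_cons, Nat.mul_mod, hl a (by simp), ih fun p hp => hl p (by simp [hp])]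
  have h3 := h2 m.primeFactorsList fun p hp => by
    have hp1 := Nat.prime_of_mem_primeFactorsList hp
    have hp2 := Nat.dvd_of_mem_primeFactorsList hp
    have hp3 := h p hp1 hp2
    have hp4 : p % 2 = 1 := by
      rcases hp1.eq_two_or_odd with rfl | h'
      · omega
      · exact h'
    omega
  rw [Nat.prod_primeFactorsList hm0] at h3
  omega

/-- a real polynomial with a simple root takes a negative value -/
theorem exists_neg (f : ℝ[X]) (ρ : ℝ) (h0 : f.eval ρ = 0) (h1 : f.derivative.eval ρ ≠ 0) :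
    ∃ a : ℝ, f.eval a < 0 := by
  by_contra! h
  refine h1 ?_
  have h2 : IsLocalMin (fun x => f.eval x) ρ := Filter.Eventually.of_forall fun x => by
    change f.eval ρ ≤ f.eval x
    rw [h0]; exact h x
  have h3 := h2.deriv_eq_zero
  rwa [Polynomial.deriv] at h3

/-- the fractions `x / M ^ k` with `x ≡ 1 mod M` are dense -/
theorem exists_frac (M : ℕ) (hM : 2 ≤ M) (a ε : ℝ) (hε : 0 < ε) :
    ∃ (x : ℤ) (k : ℕ), 1 ≤ k ∧ (M : ℤ) ∣ x - 1 ∧ |(x : ℝ) / (M : ℝ) ^ k - a| < ε := by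
  have hM0 : (0 : ℝ) < M := by positivity
  have hM1 : (1 : ℝ) < M := by exact_mod_cast hM
  obtain ⟨k, hk⟩ := pow_unbounded_of_one_lt (1 / ε) hM1
  -- x = 1 + M * floor ((a M^(k+1) - 1)/M)
  let t : ℝ := (a * (M : ℝ) ^ (k + 1) - 1) / M
  refine ⟨1 + M * ⌊t⌋, k + 1, by omega, ⟨⌊t⌋, by ring⟩, ?_⟩
  have h1 := Int.floor_le t
  have h2 := Int.lt_floor_add_one t
  have h3 : a = (1 + M * t) / (M : ℝ) ^ (k + 1) := by
    simp only [t]
    field_simp
    ring
  have h4 : (((1 + M * ⌊t⌋ : ℤ) : ℝ)) / (M : ℝ) ^ (k + 1) - a = (⌊t⌋ - t) / (M : ℝ) ^ k := by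
    rw [h3]
    push_cast
    rw [pow_succ]
    field_simp
    ring
  rw [h4, abs_div, abs_of_pos (pow_pos hM0 k), div_lt_iff₀ (pow_pos hM0 k)]
  have h5 : |(⌊t⌋ : ℝ) - t| ≤ 1 := by
    rw [abs_le]; constructor <;> linarith
  have h6 : 1 < ε * (M : ℝ) ^ k := by
    rw [div_lt_iff₀ hε] at hk
    linarith
  linarith

/-- the homogeneous value is `≡ x ^ n` modulo `y` -/
theorem dvd_eval_scaleRoots (f : ℤ[X]) (hf : f.Monic) (x y : ℤ) :
    y ∣ (f.scaleRoots y).eval x - x ^ f.natDegree := by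
  rw [Polynomial.eval_eq_sum_range, natDegree_scaleRoots, Finset.sum_range_succ,
    coeff_scaleRoots, coeff_natDegree, hf.leadingCoeff, Nat.sub_self, pow_zero, mul_one, one_mul,
    add_sub_cancel_right]
  refine Finset.dvd_sum fun i hi => ?_
  rw [coeff_scaleRoots]
  rw [Finset.mem_range] at hi
  exact Dvd.dvd.mul_right (Dvd.dvd.mul_left (dvd_pow_self y (by omega)) _) _

/-- a monic integral polynomial with a simple real root has a root modulo a prime `r ≡ 3 mod 4` prime to a given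
number -/
theorem exists_root (f : ℤ[X]) (hf : f.Monic) (ρ : ℝ) (h0 : (f.map (Int.castRingHom ℝ)).eval ρ = 0)
    (h1 : (f.map (Int.castRingHom ℝ)).derivative.eval ρ ≠ 0) (N : ℕ) (hN : 0 < N) :
    ∃ r : ℕ, r.Prime ∧ r % 4 = 3 ∧ ¬ r ∣ N ∧ ∃ c : ℤ, (r : ℤ) ∣ f.eval c := by
  obtain ⟨a, ha⟩ := exists_neg _ ρ h0 h1
  have hcont : Continuous fun x : ℝ => (f.map (Int.castRingHom ℝ)).eval x := Polynomial.continuous _
  have hopen : IsOpen {x : ℝ | (f.map (Int.castRingHom ℝ)).eval x < 0} := isOpen_Iio.preimage hcont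
  obtain ⟨ε, hε, hball⟩ := Metric.isOpen_iff.1 hopen a ha
  obtain ⟨x, k, hk, hx, hxa⟩ := exists_frac (4 * N) (by omega) a ε hε
  have hneg : (f.map (Int.castRingHom ℝ)).eval ((x : ℝ) / ((4 * N : ℕ) : ℝ) ^ k) < 0 :=
    hball (by rw [Metric.mem_ball, Real.dist_eq]; exact hxa)
  set y : ℤ := ((4 * N : ℕ) : ℤ) ^ k with hy
  set G : ℤ := (f.scaleRoots y).eval x with hG
  have hy0 : (0 : ℝ) < (y : ℝ) := by
    rw [hy]; push_cast; positivity
  have hGneg : G < 0 := by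
    have e1 : ((G : ℤ) : ℝ) = (y : ℝ) ^ f.natDegree * (f.map (Int.castRingHom ℝ)).eval ((x : ℝ) / (y : ℝ)) := by
      rw [eval_map, ← eq_intCast (Int.castRingHom ℝ) y, ← scaleRoots_eval₂_mul, eq_intCast,
        mul_div_cancel₀ _ hy0.ne', hG]
      rw [← eq_intCast (Int.castRingHom ℝ) (eval x (f.scaleRoots y)), ← Polynomial.eval₂_at_apply]
      simp
    have e2 : (y : ℝ) = ((4 * N : ℕ) : ℝ) ^ k := by rw [hy]; push_cast; rfl
    rw [← e2] at hneg
    have e3 : ((G : ℤ) : ℝ) < 0 := by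
      rw [e1]
      exact mul_neg_of_pos_of_neg (pow_pos hy0 _) hneg
    exact_mod_cast e3
  have hMy : ((4 * N : ℕ) : ℤ) ∣ y := dvd_pow_self _ (by omega)
  have hG1 : ((4 * N : ℕ) : ℤ) ∣ G - 1 := by
    have e1 : ((4 * N : ℕ) : ℤ) ∣ G - x ^ f.natDegree := hMy.trans (dvd_eval_scaleRoots f hf x y)
    have e2 : ((4 * N : ℕ) : ℤ) ∣ x ^ f.natDegree - 1 := by
      have := sub_dvd_pow_sub_pow x 1 f.natDegree
      rw [one_pow] at this
      exact hx.trans this
    have := dvd_add e1 e2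
    rwa [sub_add_sub_cancel] at this
  obtain ⟨m, hm⟩ : ∃ m : ℕ, (m : ℤ) = -G := ⟨(-G).toNat, Int.toNat_of_nonneg (by omega)⟩
  have hm4 : m % 4 = 3 := by
    have h4 : (4 : ℤ) ∣ G - 1 := (Dvd.intro (N : ℤ) (by push_cast; ring)).trans hG1
    omega
  obtain ⟨r, hr, hrm, hr4⟩ := exists_prime_three m hm4
  have hrG : (r : ℤ) ∣ G := by
    have : (r : ℤ) ∣ (m : ℤ) := by exact_mod_cast hrm
    rw [hm] at this
    exact (dvd_neg.1 this)
  have hrM : ¬ (r : ℤ) ∣ ((4 * N : ℕ) : ℤ) := fun h => by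
    have h' := dvd_sub hrG (h.trans hG1)
    rw [sub_sub_cancel] at h'
    have : r ∣ 1 := by exact_mod_cast h'
    exact hr.one_lt.ne' (Nat.dvd_one.1 this)
  have hrN : ¬ r ∣ N := fun h => hrM (by exact_mod_cast h.mul_left 4)
  refine ⟨r, hr, hr4, hrN, ?_⟩
  have := Fact.mk hr
  have hy1 : ((y : ℤ) : ZMod r) ≠ 0 := by
    rw [Ne, ZMod.intCast_zmod_eq_zero_iff_dvd, hy]
    intro h
    exact hrM ((Nat.prime_iff_prime_int.1 hr).dvd_of_dvd_pow h)
  obtain ⟨c, hc⟩ := ZMod.intCast_surjective ((x : ZMod r) / (y : ZMod r))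
  refine ⟨c, ?_⟩
  rw [← ZMod.intCast_zmod_eq_zero_iff_dvd]
  have e1 : ((G : ℤ) : ZMod r) = 0 := (ZMod.intCast_zmod_eq_zero_iff_dvd _ _).2 hrG
  have e2 : ((G : ℤ) : ZMod r) = (y : ZMod r) ^ f.natDegree * f.eval₂ (Int.castRingHom (ZMod r)) ((x : ZMod r) / (y : ZMod r)) := by
    rw [← eq_intCast (Int.castRingHom (ZMod r)) y, ← scaleRoots_eval₂_mul, eq_intCast,
        mul_div_cancel₀ _ hy1, hG]
    rw [← eq_intCast (Int.castRingHom (ZMod r)) (eval x (f.scaleRoots y)), ← Polynomial.eval₂_at_apply]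
    simp
  rw [e1] at e2
  rcases mul_eq_zero.1 e2.symm with h | h
  · exact absurd h (pow_ne_zero _ hy1)
  · rw [← eq_intCast (Int.castRingHom (ZMod r)) (eval c f), ← Polynomial.eval₂_at_apply, eq_intCast, hc]
    exact h

end K229.PolVal
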