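import Groth.Agent.AbVar.K229.NTG
import Groth.Agent.AbVar.K511.HT.Iface3
import Mathlib.NumberTheory.NumberField.Units.Basic

/-!
# XI of the Honda–Tate interface: square roots of `δ` modulo powers of `r`
-/

set_option autoImplicit false
open NumberField

namespace K229.XI

/-- Newton iteration in a commutative ring -/
theorem hensel {A : Type*} [CommRing A] (r : ℕ) (hr : r % 2 = 1) (δ x : A) (hx : (r : A) ∣ x ^ 2 - δ)
    (hcop : IsCoprime (r : A) x) :
    ∃ ξ : ℕ → A, (∀ n, (r : A) ^ n ∣ ξ n ^ 2 - δ) ∧ (∀ n, (r : A) ∣ ξ n - x) ∧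
      ∀ n, (r : A) ^ n ∣ ξ (n + 1) - ξ n := by
  -- step
  have step : ∀ (n : ℕ) (y : A), (r : A) ^ (n + 1) ∣ y ^ 2 - δ → (r : A) ∣ y - x →
      ∃ y' : A, (r : A) ^ (n + 2) ∣ y' ^ 2 - δ ∧ (r : A) ∣ y' - x ∧ (r : A) ^ (n + 1) ∣ y' - y := by
    intro n y h1 h2
    obtain ⟨e, he⟩ := h1
    obtain ⟨f, hf⟩ := h2
    obtain ⟨a, b, hab⟩ := hcop
    obtain ⟨k, hk⟩ : ∃ k : ℕ, r = 2 * k + 1 := ⟨r / 2, by omega⟩
    have hk' : (r : A) = 2 * k + 1 := by exact_mod_cast congrArg (Nat.cast : ℕ → A) hk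
    -- `b` inverse of `x`, so of `y`, `-k` inverse of `2`; `y' = y - r^(n+1) e b (-k)`
    refine ⟨y + (r : A) ^ (n + 1) * (e * b * k), ?_, ?_, ⟨e * b * k, by ring⟩⟩
    · -- y'^2 - δ = r^(n+1) e + 2 y r^(n+1) e b k + r^(2n+2) (..)
      refine ⟨e * (1 + 2 * k * (f * b - a)) + (r : A) ^ n * (e * b * k) ^ 2, ?_⟩
      have h3 : y * b = 1 + (r : A) * (f * b - a) := by linear_combination b * hf + hab
      have h4 : (1 : A) + 2 * k = r := by rw [hk']; ring
      linear_combination he + 2 * (r : A) ^ (n + 1) * e * k * h3 + (r : A) ^ (n + 1) * e * h4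
    · refine ⟨f + (r : A) ^ n * (e * b * k), ?_⟩
      linear_combination hf
  choose! nx h1 h2 h3 using step
  let s : ℕ → A := fun n => Nat.rec x (fun n y => nx n y) n
  have hs : ∀ n, (r : A) ^ (n + 1) ∣ s n ^ 2 - δ ∧ (r : A) ∣ s n - x := by
    intro n
    induction n with
    | zero => exact ⟨by simpa [s] using hx, by simp [s]⟩
    | succ n ih => exact ⟨h1 n (s n) ih.1 ih.2, h2 n (s n) ih.1 ih.2⟩
  refine ⟨s, fun n => (pow_dvd_pow _ (Nat.le_succ n)).trans (hs n).1, fun n => (hs n).2, fun n => ?_⟩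
  exact (pow_dvd_pow _ (Nat.le_succ n)).trans (h3 n (s n) (hs n).1 (hs n).2)

theorem chain {A : Type*} [CommRing A] (r : A) (ξ : ℕ → A) (h : ∀ n, r ^ n ∣ ξ (n + 1) - ξ n) (n m : ℕ) (hnm : n ≤ m) :
    r ^ n ∣ ξ m - ξ n := by
  induction m, hnm using Nat.le_induction with
  | base => simp
  | succ m hm ih =>
    have := dvd_add ((pow_dvd_pow r hm).trans (h m)) ih
    rwa [sub_add_sub_cancel] at this

theorem not_isUnit {F : Type*} [Field F] [NumberField F] (r : ℕ) (hr : 1 < r) : ¬ IsUnit (r : 𝓞 F) := fun h => by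
  rw [NumberField.isUnit_iff_norm, RingOfIntegers.coe_norm] at h
  have e : (((r : 𝓞 F)) : F) = algebraMap ℚ F r := by simp
  rw [e, Algebra.norm_algebraMap, abs_of_nonneg (by positivity)] at h
  have h1 : r ^ Module.finrank ℚ F = 1 := by exact_mod_cast h
  have h2 : 0 < Module.finrank ℚ F := Module.finrank_pos
  rcases Nat.pow_eq_one.1 h1 with h3 | h3 <;> omega

theorem main : K511.HT.XI := by
  intro F _ _ δ x y z r hg he
  have hr := hg.prime
  have h4 := hg.mod4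
  have hcop : IsCoprime (r : 𝓞 F) δ := NTG.coprime_of_good δ r hg
  have hx : (r : 𝓞 F) ∣ x ^ 2 - δ := ⟨-(y ^ 2 + z ^ 2), by linear_combination he⟩
  have hcx : IsCoprime (r : 𝓞 F) x := by
    have h5 : IsCoprime (r : 𝓞 F) (x ^ 2) := by
      obtain ⟨q, hq⟩ := hx
      rw [show x ^ 2 = δ + r * q by rw [← hq]; ring]
      exact hcop.add_mul_left_right q
    exact (IsCoprime.pow_right_iff two_pos).1 h5
  obtain ⟨ξ, h1, h2, h3⟩ := hensel r (by omega) δ x hx hcx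
  refine ⟨ξ, fun n => Ideal.mem_span_singleton.2 (h1 n), fun n => Ideal.mem_span_singleton.2 (h2 n),
    fun n m hnm => Ideal.mem_span_singleton.2 (chain _ ξ h3 n m hnm), fun n => ?_⟩
  -- `c = (ξ + x)² + r (..) ≡ 4 x²`
  have hc : IsCoprime (r : 𝓞 F) ((ξ n + x) ^ 2 + r * (y ^ 2 + z ^ 2)) := by
    obtain ⟨q, hq⟩ := h2 n
    have h2r : IsCoprime (r : 𝓞 F) (2 : 𝓞 F) := by
      obtain ⟨k, hk⟩ : ∃ k : ℕ, r = 2 * k + 1 := ⟨r / 2, by omega⟩
      have hk' : (r : 𝓞 F) = 2 * k + 1 := by exact_mod_cast congrArg (Nat.cast : ℕ → 𝓞 F) hk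
      exact ⟨1, -k, by linear_combination hk'⟩
    have h5 : (ξ n + x) ^ 2 + r * (y ^ 2 + z ^ 2) = (2 * x) ^ 2 + r * (q * (4 * x + r * q) + (y ^ 2 + z ^ 2)) := by
      have : ξ n = x + r * q := by linear_combination hq
      rw [this]; ring
    rw [h5]
    exact ((h2r.mul_right hcx).pow_right (n := 2)).add_mul_left_right _
  refine ⟨?_, ?_⟩
  · rw [sup_comm, ← Ideal.isCoprime_iff_sup_eq, Ideal.isCoprime_span_singleton_iff]
    exact hc
  · have hc0 : (ξ n + x) ^ 2 + r * (y ^ 2 + z ^ 2) ≠ 0 := fun h0 => by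
      rw [h0, isCoprime_zero_right] at hc
      exact not_isUnit r hr.one_lt hc
    obtain ⟨m, hm, c', hc'⟩ := NT2.exists_nat_multiple r hr _ hc0 hc
    exact ⟨m, c', hm, hc'.symm⟩

end K229.XI
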